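import Cfsg.Agent.H613.SubFus
import Cfsg.Agent.H644.Maximal
import Cfsg.Agent.H648.HeightForm
import Cfsg.Agent.S0914
import Cfsg.Agent.S0908

/-!
# A nonzero column of a character in a block of positive defect

`exists_W_ne_zero`: a character of a block with nontrivial maximal pair `a` has a nonzero product
`W p u (bel p M a u) χ η`, for some `1 ≠ u ∈ a.1`.
-/

set_option autoImplicit false
set_option linter.unusedSectionVars false

open Cfsg
open scoped ComplexConjugate

namespace Cfsg.Agent.H642.F2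

open Cfsg.Agent.H644 Cfsg.Agent.Blocks.Local Cfsg.Agent.H649
open Cfsg.Agent.Characters Cfsg.Agent.H613.SubSys Cfsg.Agent.H613.SubFus Cfsg.Agent.H613.Contrib
open Cfsg.Agent.Blocks.Basic (isPBlock_blockOf mem_blockOf_self isPBlock_eq_blockOf)

universe u

variable {p : ℕ} [Fact p.Prime] {M : Ideal AlgInt} {G : Type u} [Group G] [Finite G]
  {B : Set (IrrCharacter G)} {a : BrauerPairIdx G}

/-- A character vanishing at the `p`-singular elements is alone in its block. -/
theorem blockOf_eq_of_vanish (hM : IsPModular p M) {χ : IrrCharacter G}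
    (h : ∀ g : G, p ∣ orderOf g → (χ : G → ℂ) g = 0) : blockOf M (χ : G → ℂ) = {χ} := by
  classical
  have hp : p.Prime := Fact.out
  have := Fintype.ofFinite G
  have := Core.finite_irr (G := G)
  have := Fintype.ofFinite (IrrCharacter G)
  rw [← S0914.result p M hM χ]
  obtain ⟨k, hk⟩ := H648.HeightForm.dvd_of_vanish (p := p) (f := (χ : G → ℂ))
    (fun ψ => if ψ = χ then 1 else 0) (fun g => by
      rw [Finset.sum_eq_single χ]
      · simp
      · intro ψ _ hψ
        rw [if_neg hψ]
        simp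
      · exact fun h' => absurd (Finset.mem_univ _) h') h
  rw [Blocks.Basic.irr_one_eq_charDegree χ.2] at hk
  have hk' : (p ^ (Nat.card G).factorization p : ℤ) ∣ (charDegree (χ : G → ℂ) : ℤ) :=
    ⟨k, by exact_mod_cast hk⟩
  have h1 : p ^ (Nat.card G).factorization p ∣ charDegree (χ : G → ℂ) := by exact_mod_cast hk'
  have h2 : charDegree (χ : G → ℂ) ∣ Nat.card G := (S0914.degree_spec χ).2.2
  obtain ⟨m, hm⟩ := h2
  obtain ⟨l, hl⟩ := h1
  have hpos := Blocks.Basic.charDegree_pos χ.2
  rw [hm, Nat.mul_div_cancel_left _ hpos]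
  intro h3
  obtain ⟨r, hr⟩ := h3
  have h4 : p ^ ((Nat.card G).factorization p + 1) ∣ Nat.card G := by
    refine ⟨l * r, ?_⟩
    calc Nat.card G = charDegree (χ : G → ℂ) * m := hm
      _ = p ^ (Nat.card G).factorization p * l * (p * r) := by rw [hl, hr]
      _ = _ := by ring
  have h5 := (Nat.Prime.pow_dvd_iff_le_factorization hp Nat.card_pos.ne').1 h4
  omega

theorem exists_W_ne_zero (hM : IsPModular p M) (hmax : IsMaximalBrauerPair p M B a.1 a.2)
    (ha : a.1 ≠ ⊥) {χ : IrrCharacter G} (hχ : χ ∈ B) :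
    ∃ u ∈ a.1, u ≠ 1 ∧ ∃ η ∈ (bel p M a u).2, W p u (bel p M a u) (χ : G → ℂ) η ≠ 0 := by
  have := isPrime_of_isPModular hM
  have := Fintype.ofFinite G
  by_contra hcon
  push Not at hcon
  have hB : IsPBlock M B := hmax.1.2.1
  have hχc := isClassFunction_coe χ
  have hvan : ∀ g : G, p ∣ orderOf g → (χ : G → ℂ) g = 0 := by
    intro g hg
    obtain ⟨v, y, hvy, hcomm, hv, hy⟩ := Cfsg.Agent.Blocks.PPart.exists_isPPart p g
    have hv1 : v ≠ 1 := by
      rintro rfl
      rw [one_mul] at hvy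
      rw [hvy] at hy
      exact hy hg
    rw [← hvy]
    refine apply_eq_zero_of_W hM hχc (fun c hc1 hc η hη => ?_) hy hcomm
    by_cases hind : IsInducedBlock M (Subgroup.centralizer (c.1 : Set G)) c.2 B
    · obtain ⟨x, hx1, hx2⟩ := exists_fus_of_isSubsec hM hmax ⟨hc1, hv, hind⟩
      rw [← W_conj p x v c hχc η]
      have hx3 : x * v * x⁻¹ ≠ 1 := fun h' => hv1 (conj_eq_one_iff.1 h')
      have h1 : cjI x c η ∈ (conjIdx x c).2 := (cjI_mem x c η).2 hη
      have h2 : ∀ b : BrauerPairIdx G, b = bel p M a (x * v * x⁻¹) → ∀ ζ ∈ b.2,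
          W p (x * v * x⁻¹) b (χ : G → ℂ) ζ = 0 := by
        rintro _ rfl ζ hζ
        exact hcon _ hx1 hx3 ζ hζ
      exact h2 _ hx2 _ h1
    · exact W_eq_zero hM hv hc1 hB hc hind hχ hη
  have h1 := blockOf_eq_of_vanish hM hvan
  have h2 : B = {χ} := by rw [← h1]; exact isPBlock_eq_blockOf hB hχ
  have hD := isDefectGroup_of_isMaximalBrauerPair hM hmax
  have h3 := S0908.result p M hM B hB a.1 hD
  have h4 : blockDefect p B = 0 := by
    have h5 : ¬ p ∣ Nat.card G / charDegree (χ : G → ℂ) := (S0914.result p M hM χ).2 h1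
    have h6 : charDegree (χ : G → ℂ) ∣ Nat.card G := (S0914.degree_spec χ).2.2
    have hpos := Blocks.Basic.charDegree_pos χ.2
    have h7 : (charDegree (χ : G → ℂ)).factorization p = (Nat.card G).factorization p := by
      obtain ⟨m, hm⟩ := h6
      rw [hm, Nat.mul_div_cancel_left _ hpos] at h5
      have hm0 : m ≠ 0 := by
        rintro rfl
        rw [mul_zero] at hm
        exact Nat.card_pos.ne' hm
      rw [hm, Nat.factorization_mul hpos.ne' hm0, Finsupp.add_apply,
        Nat.factorization_eq_zero_of_not_dvd h5, add_zero]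
    have h8 : (fun ψ : IrrCharacter G => (charDegree (ψ : G → ℂ)).factorization p) '' B =
        {(Nat.card G).factorization p} := by
      rw [h2, Set.image_singleton, h7]
    unfold blockDefect
    rw [h8, csInf_singleton, Nat.sub_self]
  rw [h4, pow_zero] at h3
  exact ha (Subgroup.eq_bot_of_card_eq _ h3)

/-- The same, with explicit pairs. -/
theorem exists_wt_ne_zero (hM : IsPModular p M) {P : Subgroup G}
    {e : Set (IrrCharacter (Subgroup.centralizer (P : Set G)))}
    (hmax : IsMaximalBrauerPair p M B P e) (hP : P ≠ ⊥) {χ : IrrCharacter G} (hχ : χ ∈ B) :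
    ∃ u ∈ P, u ≠ 1 ∧ ∃ f : Set (IrrCharacter (Subgroup.centralizer
        ((Subgroup.zpowers u : Subgroup G) : Set G))), IsPBlock M f ∧
      SubpairLE p M (Subgroup.zpowers u) f P e ∧ ∃ η ∈ f,
        ∀ [Fintype (Subgroup.centralizer ((Subgroup.zpowers u : Subgroup G) : Set G))],
        wt p u (χ : G → ℂ) (η : Subgroup.centralizer
          ((Subgroup.zpowers u : Subgroup G) : Set G) → ℂ) ≠ 0 := by
  obtain ⟨u, hu, hu1, η, hη, hne⟩ := exists_W_ne_zero (a := ⟨P, e⟩) hM hmax hP hχ
  refine ⟨u, hu, hu1, (bel p M ⟨P, e⟩ u).2, isPBlock_bel hM hmax.1.1 hu,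
    (bel_snd hM hmax.1.1 hu).2, η, hη, ?_⟩
  intro inst h
  apply hne
  unfold W
  rw [← h]
  congr 1
  exact Subsingleton.elim _ _

end Cfsg.Agent.H642.F2
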