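import Mathlib

/-!
# Symmetric algebras whose centre is generated by one nilpotent element

`A` is an algebra over a field `K` with a symmetrizing form `t`, `e` a central idempotent, `x` a
central element such that the centre of `eA` is spanned by the `x ^ i * e`, `i < q`,
`x ^ q * e = 0` and `x ^ (q - 1) * e ≠ 0`.

* `SymData.functional`: a trace form on `eA` killing `x` is a multiple of `t (x ^ (q-1) * e * -)`.
-/

set_option autoImplicit false

namespace Cfsg.Agent.H642

open Finset

variable {K : Type*} [Field K] {A : Type*} [Ring A] [Algebra K A]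

/-- The data of a symmetric algebra whose block at `e` has centre `K[x]`. -/
structure SymData (t : A →ₗ[K] K) (e x : A) (q : ℕ) : Prop where
  tcomm : ∀ a b : A, t (a * b) = t (b * a)
  nondeg : ∀ a : A, (∀ b : A, t (a * b) = 0) → a = 0
  e_comm : ∀ a : A, e * a = a * e
  e_idem : e * e = e
  x_comm : ∀ a : A, x * a = a * x
  pow_q : x ^ q * e = 0
  pow_pred : x ^ (q - 1) * e ≠ 0
  center : ∀ z : A, (∀ a : A, z * a = a * z) → z * e = z →
    ∃ c : ℕ → K, z = ∑ i ∈ range q, c i • (x ^ i * e)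

namespace SymData

variable {t : A →ₗ[K] K} {e x : A} {q : ℕ}

theorem q_pos (h : SymData t e x q) : 0 < q := by
  rcases Nat.eq_zero_or_pos q with h0 | h0
  · exfalso
    have h1 := h.pow_q
    have h2 := h.pow_pred
    subst h0
    exact h2 h1
  · exact h0

/-- Coefficients of a combination of powers of `x` killed by `x`. -/
theorem coeff_eq_zero (h : SymData t e x q) {f : A} (hf : x ^ (q - 1) * f ≠ 0)
    (hfq : x ^ q * f = 0) {k : ℕ} (c : ℕ → K)
    (hz : x ^ k * ∑ i ∈ range q, c i • (x ^ i * f) = 0) :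
    ∀ i, i + k < q → c i = 0 := by
  have hq := h.q_pos
  have hbig : ∀ n, q ≤ n → x ^ n * f = 0 := by
    intro n hn
    obtain ⟨m, rfl⟩ := Nat.exists_eq_add_of_le hn
    rw [add_comm, pow_add, mul_assoc, hfq, mul_zero]
  intro i
  induction i using Nat.strong_induction_on with
  | _ i ih =>
  intro hi
  have h1 : x ^ (q - 1 - i - k) * (x ^ k * ∑ j ∈ range q, c j • (x ^ j * f)) = 0 := by
    rw [hz, mul_zero]
  rw [← mul_assoc, ← pow_add, mul_sum] at h1
  have h2 : ∀ j ∈ range q, x ^ (q - 1 - i - k + k) * (c j • (x ^ j * f)) =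
      if j = i then c i • (x ^ (q - 1) * f) else 0 := by
    intro j hj
    rw [mul_smul_comm, ← mul_assoc, ← pow_add]
    split_ifs with hji
    · subst hji
      congr 3
      omega
    · rcases lt_or_gt_of_ne hji with hlt | hgt
      · rw [ih j hlt (by omega), zero_smul]
      · rw [hbig _ (by omega), smul_zero]
  rw [sum_congr rfl h2, sum_ite_eq' (range q) i, if_pos (mem_range.2 (by omega))] at h1
  exact (smul_eq_zero.1 h1).resolve_right hf

theorem functional [FiniteDimensional K A] (h : SymData t e x q) (g : A →ₗ[K] K)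
    (hg : ∀ a b, g (a * b) = g (b * a)) (hgx : ∀ a, g (x * a) = 0) (hge : ∀ a, g (e * a) = g a) :
    ∃ c : K, ∀ a, g a = c * t (x ^ (q - 1) * e * a) := by
  have hq := h.q_pos
  -- represent the functional
  let Φ : A →ₗ[K] Module.Dual K A :=
    LinearMap.mk₂ K (fun z a => t (z * a)) (fun a b c => by simp [add_mul])
      (fun c a b => by simp) (fun a b c => by simp [mul_add]) (fun c a b => by simp)
  have hΦ : ∀ z a, Φ z a = t (z * a) := fun z a => rfl
  have hinj : Function.Injective Φ := by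
    rw [← LinearMap.ker_eq_bot, LinearMap.ker_eq_bot']
    intro z hz
    exact h.nondeg z fun b => by rw [← hΦ, hz]; rfl
  have hsurj : Function.Surjective Φ :=
    (LinearMap.injective_iff_surjective_of_finrank_eq_finrank
      (Subspace.dual_finrank_eq (K := K) (V := A)).symm).1 hinj
  obtain ⟨z, hz⟩ := hsurj g
  have hz' : ∀ a, t (z * a) = g a := fun a => by rw [← hΦ, hz]
  have hzc : ∀ a, z * a = a * z := by
    intro a
    rw [← sub_eq_zero]
    refine h.nondeg _ fun b => ?_
    rw [sub_mul, map_sub, sub_eq_zero, mul_assoc, hz', hg, ← hz', mul_assoc a z b, h.tcomm a,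
      mul_assoc]
  have hze : z * e = z := by
    rw [← sub_eq_zero]
    refine h.nondeg _ fun b => ?_
    rw [sub_mul, map_sub, sub_eq_zero, mul_assoc, hz', hge, hz']
  have hzx : x ^ 1 * z = 0 := by
    rw [pow_one]
    refine h.nondeg _ fun b => ?_
    rw [h.x_comm, mul_assoc, hz', hgx]
  obtain ⟨c, hc⟩ := h.center z hzc hze
  rw [hc] at hzx
  have h0 := h.coeff_eq_zero h.pow_pred h.pow_q c hzx
  have hz2 : z = c (q - 1) • (x ^ (q - 1) * e) := by
    rw [hc]
    refine sum_eq_single (q - 1) (fun i hi hne => ?_) (fun hn => ?_)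
    · rw [h0 i (by have := mem_range.1 hi; omega), zero_smul]
    · exact absurd (mem_range.2 (by omega)) hn
  refine ⟨c (q - 1), fun a => ?_⟩
  rw [← hz', hz2, smul_mul_assoc, map_smul, smul_eq_mul]

end SymData

section Corner

variable {V : Type*} [AddCommGroup V] [Module K V]

/-- The kernel of `ρ` in the block of `e`. -/
def ker' (ρ : A →ₐ[K] Module.End K V) (e : A) : Submodule K A where
  carrier := {a | e * a = a ∧ ρ a = 0}
  add_mem' := by
    rintro a b ⟨h1, h2⟩ ⟨h3, h4⟩
    exact ⟨by rw [mul_add, h1, h3], by rw [map_add, h2, h4, add_zero]⟩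
  zero_mem' := ⟨mul_zero _, map_zero _⟩
  smul_mem' := by
    rintro c a ⟨h1, h2⟩
    exact ⟨by rw [mul_smul_comm, h1], by rw [map_smul, h2, smul_zero]⟩

theorem mem_ker' {ρ : A →ₐ[K] Module.End K V} {e a : A} :
    a ∈ ker' ρ e ↔ e * a = a ∧ ρ a = 0 := Iff.rfl

variable {ρ : A →ₐ[K] Module.End K V} {e : A}

theorem mul_mem_ker'_right {a : A} (b : A) (h : a ∈ ker' ρ e) :
    a * b ∈ ker' ρ e :=
  ⟨by rw [← mul_assoc, h.1], by rw [map_mul, h.2, zero_mul]⟩

theorem mul_mem_ker'_left (he : ∀ a : A, e * a = a * e) {a : A} (b : A) (h : a ∈ ker' ρ e) :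
    b * a ∈ ker' ρ e :=
  ⟨by rw [← mul_assoc, he, mul_assoc, h.1], by rw [map_mul, h.2, mul_zero]⟩

theorem pow_mem_pow {N : ℕ} {a : A} (h : a ∈ ker' ρ e) : a ^ N ∈ ker' ρ e ^ N :=
  Submodule.pow_mem_pow _ h N

/-- Lifting a rank one idempotent. -/
theorem exists_idem (he : ∀ a : A, e * a = a * e) (hee : e * e = e) (hρe : ρ e = 1) {N : ℕ}
    (hN : ker' ρ e ^ N = ⊥) (hs : Function.Surjective ρ) {π : Module.End K V} (hπ : π * π = π) :
    ∃ f : A, e * f = f ∧ f * f = f ∧ ρ f = π := by
  classical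
  obtain ⟨a', ha'⟩ := hs π
  set a := e * a' with ha
  have hea : e * a = a := by rw [ha, ← mul_assoc, hee]
  have hρa : ρ a = π := by rw [ha, map_mul, hρe, one_mul, ha']
  -- a * a - a is nilpotent
  have h1 : a * a - a ∈ ker' ρ e := by
    refine ⟨by rw [mul_sub, ← mul_assoc, hea], ?_⟩
    rw [map_sub, map_mul, hρa, hπ, sub_self]
  have h2 : (a * a - a) ^ (N + 1) = 0 := by
    have h3 := pow_mem_pow (N := N) h1
    rw [hN, Submodule.mem_bot] at h3
    rw [pow_succ, h3, zero_mul]
  -- Bezout for X ^ n and (X - 1) ^ n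
  have hcop : IsCoprime ((Polynomial.X : Polynomial K) ^ (N + 1))
      ((Polynomial.X - 1 : Polynomial K) ^ (N + 1)) := by
    refine IsCoprime.pow ⟨1, -1, ?_⟩
    ring
  obtain ⟨u, v, huv⟩ := hcop
  set P : Polynomial K := u * Polynomial.X ^ (N + 1) with hP
  have hP1 : 1 - P = v * (Polynomial.X - 1) ^ (N + 1) := sub_eq_iff_eq_add'.2 huv.symm
  have hPP : P * (1 - P) = (u * v) * (Polynomial.X * (Polynomial.X - 1)) ^ (N + 1) := by
    rw [hP1, hP, mul_pow]; ring
  set f := Polynomial.aeval a P with hf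
  have hfa : f = Polynomial.aeval a u * a ^ (N + 1) := by
    rw [hf, hP, map_mul, map_pow, Polynomial.aeval_X]
  have hf1 : 1 - f = Polynomial.aeval a v * (a - 1) ^ (N + 1) := by
    have h3 : (1 : A) - f = Polynomial.aeval a (1 - P) := by rw [map_sub, map_one]
    rw [h3, hP1, map_mul, map_pow, map_sub, Polynomial.aeval_X, map_one]
  have hff : f * f = f := by
    have h3 : f * (1 - f) = 0 := by
      have h4 : f * (1 - f) = Polynomial.aeval a (P * (1 - P)) := by
        rw [map_mul, map_sub, map_one]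
      rw [h4, hPP, map_mul, map_pow, map_mul (Polynomial.aeval a) Polynomial.X, map_sub,
        Polynomial.aeval_X, map_one, mul_sub, mul_one, h2, mul_zero]
    rw [mul_sub, mul_one, sub_eq_zero] at h3
    exact h3.symm
  have hπn : ∀ n : ℕ, π ^ (n + 1) = π := by
    intro n
    induction n with
    | zero => rw [zero_add, pow_one]
    | succ n ih => rw [pow_succ, ih, hπ]
  refine ⟨f, ?_, hff, ?_⟩
  · rw [hfa, pow_succ', ← mul_assoc, ← mul_assoc, he, mul_assoc (Polynomial.aeval a u) e a, hea,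
      mul_assoc]
  · have h3 : ρ f * π = ρ f := by
      rw [hfa, map_mul, map_pow, hρa, hπn, mul_assoc, hπ]
    have h4 : (1 - ρ f) * π = 0 := by
      have h5 : (1 : Module.End K V) - ρ f = ρ (1 - f) := by rw [map_sub, map_one]
      rw [h5, hf1, map_mul, map_pow, map_sub, hρa, map_one, mul_assoc, pow_succ, mul_assoc,
        sub_mul, one_mul, hπ, sub_self, mul_zero, mul_zero]
    rw [sub_mul, one_mul, h3, sub_eq_zero] at h4
    exact h4.symm

/-- The endomorphisms `φ i * π * ψ i` sum up to the identity. -/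
theorem exists_sum_rank_one [FiniteDimensional K V] {v : V} {g : Module.Dual K V} (hgv : g v = 1) :
    ∃ (n : ℕ) (φ ψ : Fin n → Module.End K V),
      ∑ i, φ i * (g.smulRight v : Module.End K V) * ψ i = 1 := by
  let b := Module.finBasis K V
  refine ⟨Module.finrank K V, fun i => g.smulRight (b i), fun i => (b.coord i).smulRight v, ?_⟩
  refine LinearMap.ext fun w => ?_
  rw [LinearMap.sum_apply, Module.End.one_apply]
  conv_rhs => rw [← b.sum_repr w]
  refine Finset.sum_congr rfl fun i _ => ?_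
  rw [Module.End.mul_apply, Module.End.mul_apply, LinearMap.smulRight_apply,
    LinearMap.smulRight_apply, LinearMap.smulRight_apply, map_smul, hgv, Module.Basis.coord_apply,
    smul_eq_mul, mul_one, map_smul, hgv, smul_eq_mul, mul_one]

/-- `e = ∑ a i * f * b i`. -/
theorem exists_full [FiniteDimensional K V] (he : ∀ a : A, e * a = a * e) (hee : e * e = e)
    (hρe : ρ e = 1) {N : ℕ}
    (hN : ker' ρ e ^ N = ⊥) (hs : Function.Surjective ρ) {v : V} {g : Module.Dual K V}
    (hgv : g v = 1) {f : A} (hef : e * f = f) (hf : ρ f = g.smulRight v) :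
    ∃ (n : ℕ) (a b : Fin n → A), ∑ i, a i * f * b i = e := by
  obtain ⟨n, φ, ψ, hsum⟩ := exists_sum_rank_one (K := K) hgv
  choose a ha using fun i => hs (φ i)
  choose b hb using fun i => hs (ψ i)
  set w := ∑ i, a i * f * b i with hw
  have hρw : ρ w = 1 := by
    rw [hw, map_sum, ← hsum]
    refine Finset.sum_congr rfl fun i _ => ?_
    rw [map_mul, map_mul, ha, hb, hf]
  have hew : e * w = w := by
    rw [hw, mul_sum]
    refine Finset.sum_congr rfl fun i _ => ?_
    rw [← mul_assoc, ← mul_assoc, he, mul_assoc (a i) e f, hef]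
  set j := e - w with hj
  have hjk : j ∈ ker' ρ e := by
    refine ⟨by rw [hj, mul_sub, hee, hew], ?_⟩
    rw [hj, map_sub, hρe, hρw, sub_self]
  have hjN : j ^ (N + 1) = 0 := by
    have h3 := pow_mem_pow (N := N) hjk
    rw [hN, Submodule.mem_bot] at h3
    rw [pow_succ, h3, zero_mul]
  have hwj : w = e - j := by rw [hj, sub_sub_cancel]
  have hinv : w * ∑ i ∈ range (N + 1), e * j ^ i = e := by
    have h1 : ∀ i, w * (e * j ^ i) = w * j ^ i := by
      intro i
      rw [← mul_assoc, ← he, hew]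
    rw [mul_sum, Finset.sum_congr rfl fun i _ => h1 i, ← mul_sum]
    have h2 : ∀ y : A, w * y = e * ((1 - j) * y) := by
      intro y
      rw [← mul_assoc, mul_sub, hjk.1, mul_one, hwj]
    rw [h2, mul_neg_geom_sum, hjN, sub_zero, mul_one]
  refine ⟨n, a, fun i => b i * ∑ k ∈ range (N + 1), e * j ^ k, ?_⟩
  refine Eq.trans ?_ hinv
  rw [hw, sum_mul]
  exact Finset.sum_congr rfl fun i _ => by rw [mul_assoc (a i * f)]

/-- `f A f`. -/
def cor (f : A) : Submodule K A where
  carrier := {a | f * a * f = a}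
  add_mem' := by
    intro a b (ha : f * a * f = a) (hb : f * b * f = b)
    change f * (a + b) * f = a + b
    rw [mul_add, add_mul, ha, hb]
  zero_mem' := by
    change f * 0 * f = 0
    rw [mul_zero, zero_mul]
  smul_mem' := by
    intro c a (ha : f * a * f = a)
    change f * (c • a) * f = c • a
    rw [mul_smul_comm, smul_mul_assoc, ha]

theorem mem_cor {f a : A} : a ∈ cor (K := K) f ↔ f * a * f = a := Iff.rfl

theorem mul_mem_cor_left {f a : A} (hff : f * f = f) (h : a ∈ cor (K := K) f) : f * a = a := by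
  rw [mem_cor] at h
  rw [← h, ← mul_assoc, ← mul_assoc, hff]

theorem mul_mem_cor_right {f a : A} (hff : f * f = f) (h : a ∈ cor (K := K) f) : a * f = a := by
  rw [mem_cor] at h
  rw [← h, mul_assoc, hff]

theorem cor_mem {f : A} (hff : f * f = f) (a : A) : f * a * f ∈ cor (K := K) f := by
  rw [mem_cor, ← mul_assoc, ← mul_assoc, hff, mul_assoc, hff]

theorem mul_mem_cor {f a b : A} (hff : f * f = f) (ha : a ∈ cor (K := K) f)
    (hb : b ∈ cor (K := K) f) : a * b ∈ cor (K := K) f := by
  rw [mem_cor, ← mul_assoc, mul_mem_cor_left hff ha, mul_assoc, mul_mem_cor_right hff hb]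

theorem f_mem_cor {f : A} (hff : f * f = f) : f ∈ cor (K := K) f := by
  rw [mem_cor, hff, hff]

/-- The commutators of `f A f`. -/
def comm (K : Type*) [Field K] {A : Type*} [Ring A] [Algebra K A] (f : A) : Submodule K A :=
  Submodule.span K {a | ∃ l ∈ cor (K := K) f, ∃ l' ∈ cor (K := K) f, a = l * l' - l' * l}

/-- The multiples of `x` in `f A f`. -/
def mulx (x f : A) : Submodule K A := (cor (K := K) f).map (LinearMap.mulLeft K x)

theorem mem_mulx {x f a : A} : a ∈ mulx (K := K) x f ↔ ∃ l ∈ cor (K := K) f, x * l = a := by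
  unfold mulx
  rw [Submodule.mem_map]
  rfl

/-- All hypotheses together. -/
structure Setup (t : A →ₗ[K] K) (e x : A) (q : ℕ) (ρ : A →ₐ[K] Module.End K V) (N : ℕ)
    (v : V) (g : Module.Dual K V) (f : A) (n : ℕ) (a b : Fin n → A) : Prop
    extends SymData t e x q where
  surj : Function.Surjective ρ
  rho_e : ρ e = 1
  nil : ker' ρ e ^ N = ⊥
  rho_x : ρ x = 0
  gv : g v = 1
  ef : e * f = f
  ff : f * f = f
  rho_f : ρ f = g.smulRight v
  sum : ∑ i, a i * f * b i = e

section

variable [FiniteDimensional K A] [FiniteDimensional K V]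
variable {t : A →ₗ[K] K} {x : A} {q : ℕ} {N : ℕ} {v : V} {g : Module.Dual K V} {f : A} {n : ℕ}
  {a b : Fin n → A}

/-- The trace of `ρ` spans the trace forms killing `x`. -/
theorem Setup.trace (h : Setup t e x q ρ N v g f n a b) (φ : A →ₗ[K] K)
    (hφ : ∀ a b, φ (a * b) = φ (b * a)) (hφx : ∀ a, φ (x * a) = 0) (hφe : ∀ a, φ (e * a) = φ a) :
    ∃ c : K, ∀ a, φ a = c * LinearMap.trace K V (ρ a) := by
  obtain ⟨c, hc⟩ := h.toSymData.functional φ hφ hφx hφe
  let τ : A →ₗ[K] K := (LinearMap.trace K V).comp ρ.toLinearMap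
  have hτ : ∀ a, τ a = LinearMap.trace K V (ρ a) := fun a => rfl
  obtain ⟨d, hd⟩ := h.toSymData.functional τ
    (fun a b => by rw [hτ, hτ, map_mul ρ, map_mul ρ, LinearMap.trace_mul_comm])
    (fun a => by rw [hτ, map_mul ρ, h.rho_x, zero_mul, map_zero])
    (fun a => by rw [hτ, hτ, map_mul ρ, h.rho_e, one_mul])
  have hf1 : τ f = 1 := by
    rw [hτ, h.rho_f, LinearMap.trace_smulRight, h.gv]
  have hd0 : d ≠ 0 := by
    intro h0
    rw [hd, h0, zero_mul] at hf1
    exact zero_ne_one hf1
  refine ⟨c * d⁻¹, fun a => ?_⟩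
  rw [← hτ, hc, hd]
  field_simp

omit [FiniteDimensional K A] [FiniteDimensional K V] in
theorem Setup.ef' (h : Setup t e x q ρ N v g f n a b) : f * e = f := by
  rw [← h.e_comm, h.ef]

theorem Setup.ker_cor_le (h : Setup t e x q ρ N v g f n a b) {j : A}
    (hj : j ∈ cor (K := K) f) (hρj : ρ j = 0) : j ∈ comm K f ⊔ mulx x f := by
  by_contra hcon
  obtain ⟨η, hη1, hη2⟩ := Submodule.exists_dual_map_eq_bot_of_notMem hcon inferInstance
  have hη : ∀ y ∈ comm K f ⊔ mulx x f, η y = 0 := by
    intro y hy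
    have h9 : η y ∈ (comm K f ⊔ mulx x f).map η := Submodule.mem_map_of_mem hy
    exact (Submodule.mem_bot K).1 (hη2 ▸ h9)
  have hcomm : ∀ l ∈ cor (K := K) f, ∀ l' ∈ cor (K := K) f, η (l * l') = η (l' * l) := by
    intro l hl l' hl'
    rw [← sub_eq_zero, ← map_sub]
    exact hη _ (Submodule.mem_sup_left (Submodule.subset_span ⟨l, hl, l', hl', rfl⟩))
  let φ : A →ₗ[K] K :=
    { toFun := fun y => ∑ i, η (f * b i * y * (a i * f))
      map_add' := fun y z => by
        rw [← sum_add_distrib]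
        exact sum_congr rfl fun i _ => by rw [mul_add, add_mul, map_add]
      map_smul' := fun c y => by
        rw [RingHom.id_apply, smul_sum]
        exact sum_congr rfl fun i _ => by rw [mul_smul_comm, smul_mul_assoc, map_smul] }
  have hφ : ∀ y, φ y = ∑ i, η (f * b i * y * (a i * f)) := fun y => rfl
  have hmem : ∀ y z : A, f * y * (z * f) ∈ cor (K := K) f := by
    intro y z
    have := cor_mem (K := K) h.ff (y * z)
    rwa [← mul_assoc f y z, mul_assoc (f * y) z f] at this
  have hmem' : ∀ i (y : A) k, f * b i * y * (a k * f) ∈ cor (K := K) f := by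
    intro i y k
    have := hmem (b i * y) (a k)
    rwa [← mul_assoc f (b i) y] at this
  have hins : ∀ (y z : A), f * y * z * f = ∑ k, (f * y * (a k * f)) * (f * b k * z * f) := by
    intro y z
    have h1 : f * y * z * f = f * y * (∑ k, a k * f * b k) * z * f := by
      rw [h.sum, mul_assoc (f * y) e z, h.e_comm, ← mul_assoc, mul_assoc _ e f, h.ef]
    rw [h1, mul_sum, sum_mul, sum_mul]
    refine sum_congr rfl fun k _ => ?_
    have h2 : f * y * (a k * f * b k) = f * y * (a k * (f * f) * b k) := by rw [h.ff]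
    rw [h2]
    simp only [mul_assoc]
  have htr : ∀ y z, φ (y * z) = φ (z * y) := by
    intro y z
    rw [hφ, hφ]
    have h1 : ∀ (y z : A) i, η (f * b i * (y * z) * (a i * f)) =
        ∑ k, η ((f * b i * y * (a k * f)) * (f * b k * z * (a i * f))) := by
      intro y z i
      rw [← map_sum]
      congr 1
      have h2 := hins (b i * y) (z * a i)
      simp only [mul_assoc] at h2 ⊢
      exact h2
    rw [sum_congr rfl fun i _ => h1 y z i, sum_congr rfl fun i _ => h1 z y i, sum_comm]
    refine sum_congr rfl fun k _ => sum_congr rfl fun i _ => ?_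
    exact hcomm _ (hmem' _ _ _) _ (hmem' _ _ _)
  have hφx : ∀ y, φ (x * y) = 0 := by
    intro y
    rw [hφ]
    refine sum_eq_zero fun i _ => hη _ (Submodule.mem_sup_right (mem_mulx.2
      ⟨f * b i * y * (a i * f), hmem' _ _ _, ?_⟩))
    rw [← mul_assoc, ← mul_assoc x, h.x_comm, mul_assoc (f * b i) x y]
  have hφe : ∀ y, φ (e * y) = φ y := by
    intro y
    rw [hφ, hφ]
    refine sum_congr rfl fun i _ => ?_
    have h1 : f * b i * (e * y) * (a i * f) = f * b i * y * (a i * (e * f)) := by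
      rw [h.e_comm y, ← mul_assoc (a i), ← h.e_comm (a i)]
      simp only [mul_assoc]
    rw [h1, h.ef]
  obtain ⟨c, hc⟩ := h.trace φ htr hφx hφe
  have h1 : φ j = 0 := by rw [hc, hρj, map_zero, mul_zero]
  have h2 : φ j = η j := by
    rw [hφ]
    have h3 : ∀ i, η (f * b i * j * (a i * f)) = η (j * (f * a i * f * b i * f)) := by
      intro i
      have h4 : f * b i * j * (a i * f) = (f * b i * f) * (j * (f * a i * f)) := by
        rw [mul_assoc (f * b i) f, ← mul_assoc f j, mul_mem_cor_left h.ff hj, ← mul_assoc j,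
          ← mul_assoc j, mul_mem_cor_right h.ff hj, mul_assoc (f * b i), mul_assoc j]
      rw [h4, hcomm _ (cor_mem h.ff _) _ (mul_mem_cor h.ff hj (cor_mem h.ff _))]
      congr 1
      rw [mul_assoc j]
      congr 1
      have h5 : f * a i * f * (f * b i * f) = f * a i * (f * f) * b i * f := by
        simp only [mul_assoc]
      rw [h5, h.ff]
    rw [sum_congr rfl fun i _ => h3 i, ← map_sum, ← mul_sum]
    congr 1
    have h6 : ∑ i, f * a i * f * b i * f = f * (∑ i, a i * f * b i) * f := by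
      rw [mul_sum, sum_mul]
      exact sum_congr rfl fun i _ => by simp only [mul_assoc]
    rw [h6, h.sum, h.ef', h.ff, mul_mem_cor_right h.ff hj]
  rw [h2] at h1
  exact hη1 h1

/-- The elements of `f A f` killed by `ρ`. -/
def jac (ρ : A →ₐ[K] Module.End K V) (f : A) : Submodule K A :=
  cor (K := K) f ⊓ LinearMap.ker ρ.toLinearMap

omit [FiniteDimensional K A] [FiniteDimensional K V] in
theorem mem_jac {j : A} : j ∈ jac ρ f ↔ j ∈ cor (K := K) f ∧ ρ j = 0 := Iff.rfl

omit [FiniteDimensional K A] [FiniteDimensional K V] in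
theorem Setup.exists_scalar (h : Setup t e x q ρ N v g f n a b) {l : A}
    (hl : l ∈ cor (K := K) f) : ∃ c : K, l - c • f ∈ jac ρ f := by
  refine ⟨g (ρ l v), Submodule.sub_mem _ hl (Submodule.smul_mem _ _ (f_mem_cor h.ff)), ?_⟩
  change ρ (l - g (ρ l v) • f) = 0
  have h1 : ρ l = ρ f * ρ l * ρ f := by
    rw [← map_mul, ← map_mul, hl]
  rw [map_sub, map_smul, sub_eq_zero]
  conv_lhs => rw [h1, h.rho_f]
  rw [h.rho_f]
  refine LinearMap.ext fun w => ?_
  rw [Module.End.mul_apply, Module.End.mul_apply, LinearMap.smulRight_apply,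
    LinearMap.smulRight_apply, map_smul, map_smul, LinearMap.smul_apply,
    LinearMap.smulRight_apply, smul_eq_mul, smul_smul, mul_comm]

omit [FiniteDimensional K A] [FiniteDimensional K V] in
theorem Setup.comm_le (h : Setup t e x q ρ N v g f n a b) : comm K f ≤ jac ρ f * jac ρ f := by
  refine Submodule.span_le.2 ?_
  rintro _ ⟨l, hl, l', hl', rfl⟩
  obtain ⟨c, hc⟩ := h.exists_scalar hl
  obtain ⟨c', hc'⟩ := h.exists_scalar hl'
  have h1 : l * l' - l' * l = (l - c • f) * (l' - c' • f) - (l' - c' • f) * (l - c • f) := by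
    simp only [sub_mul, mul_sub, smul_mul_assoc, mul_smul_comm, mul_mem_cor_left h.ff hl,
      mul_mem_cor_right h.ff hl, mul_mem_cor_left h.ff hl', mul_mem_cor_right h.ff hl', h.ff]
    simp only [smul_sub]
    rw [smul_comm c c' f]
    abel
  rw [SetLike.mem_coe, h1]
  exact Submodule.sub_mem _ (Submodule.mul_mem_mul hc hc') (Submodule.mul_mem_mul hc' hc)

omit [FiniteDimensional K A] [FiniteDimensional K V] in
theorem Setup.jac_mul_mulx_le (h : Setup t e x q ρ N v g f n a b) :
    jac ρ f * mulx x f ≤ mulx x f := by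
  refine Submodule.mul_le.2 ?_
  intro j hj y hy
  obtain ⟨l, hl, rfl⟩ := mem_mulx.1 hy
  refine mem_mulx.2 ⟨j * l, mul_mem_cor h.ff hj.1 hl, ?_⟩
  rw [← mul_assoc, h.x_comm, mul_assoc]

theorem Setup.jac_le (h : Setup t e x q ρ N v g f n a b) :
    jac ρ f ≤ jac ρ f * jac ρ f ⊔ mulx x f := by
  intro j hj
  exact sup_le_sup_right h.comm_le _ (h.ker_cor_le hj.1 hj.2)

theorem Setup.jac_le_pow (h : Setup t e x q ρ N v g f n a b) (k : ℕ) :
    jac ρ f ≤ jac ρ f ^ (k + 1) ⊔ mulx x f := by
  induction k with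
  | zero => rw [zero_add, pow_one]; exact le_sup_left
  | succ k ih =>
    calc jac ρ f ≤ jac ρ f * jac ρ f ⊔ mulx x f := h.jac_le
      _ ≤ jac ρ f * (jac ρ f ^ (k + 1) ⊔ mulx x f) ⊔ mulx x f :=
        sup_le_sup_right (mul_le_mul_right ih _) _
      _ ≤ jac ρ f ^ (k + 1 + 1) ⊔ mulx x f := by
        rw [Submodule.mul_sup, ← pow_succ', sup_assoc]
        refine sup_le_sup_left (sup_le h.jac_mul_mulx_le le_rfl) _

omit [FiniteDimensional K A] [FiniteDimensional K V] in
theorem Setup.jac_le_ker' (h : Setup t e x q ρ N v g f n a b) : jac ρ f ≤ ker' ρ e := by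
  intro j hj
  refine ⟨?_, hj.2⟩
  rw [← hj.1, ← mul_assoc, ← mul_assoc, h.ef]

theorem Setup.jac_le_mulx (h : Setup t e x q ρ N v g f n a b) : jac ρ f ≤ mulx x f := by
  have h1 : jac ρ f ^ (N + 1) = ⊥ := by
    rw [eq_bot_iff]
    calc jac ρ f ^ (N + 1) ≤ ker' ρ e ^ (N + 1) := pow_le_pow_left' h.jac_le_ker' _
      _ = ⊥ := by rw [pow_succ, h.nil, Submodule.bot_mul]
  have h2 := h.jac_le_pow N
  rwa [h1, bot_sup_eq] at h2

theorem Setup.cor_step (h : Setup t e x q ρ N v g f n a b) {l : A} (hl : l ∈ cor (K := K) f) :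
    ∃ (c : K) (l' : A), l' ∈ cor (K := K) f ∧ l = c • f + x * l' := by
  obtain ⟨c, hc⟩ := h.exists_scalar hl
  obtain ⟨l', hl', h'⟩ := mem_mulx.1 (h.jac_le_mulx hc)
  exact ⟨c, l', hl', by rw [h', add_sub_cancel]⟩

/-- `f A f = K[x] f`. -/
theorem Setup.cor_eq (h : Setup t e x q ρ N v g f n a b) {l : A} (hl : l ∈ cor (K := K) f) :
    ∃ c : ℕ → K, l = ∑ i ∈ range q, c i • (x ^ i * f) := by
  have h1 : ∀ k : ℕ, ∃ (c : ℕ → K) (l' : A), l' ∈ cor (K := K) f ∧
      l = ∑ i ∈ range k, c i • (x ^ i * f) + x ^ k * l' := by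
    intro k
    induction k with
    | zero => exact ⟨0, l, hl, by rw [sum_range_zero, zero_add, pow_zero, one_mul]⟩
    | succ k ih =>
      obtain ⟨c, l', hl', h2⟩ := ih
      obtain ⟨d, l'', hl'', h3⟩ := h.cor_step hl'
      refine ⟨Function.update c k d, l'', hl'', ?_⟩
      rw [sum_range_succ, Function.update_self]
      have h4 : ∑ i ∈ range k, Function.update c k d i • (x ^ i * f) =
          ∑ i ∈ range k, c i • (x ^ i * f) := by
        refine sum_congr rfl fun i hi => ?_
        rw [Function.update_of_ne (mem_range.1 hi).ne]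
      rw [h4]
      conv_lhs => rw [h2, h3]
      rw [mul_add, mul_smul_comm, pow_succ, mul_assoc (x ^ k) x l'', ← add_assoc]
  obtain ⟨c, l', hl', h2⟩ := h1 q
  refine ⟨c, ?_⟩
  have h3 : x ^ q * l' = 0 := by
    have h4 : e * l' = l' := by rw [← mul_mem_cor_left h.ff hl', ← mul_assoc, h.ef]
    rw [← h4, ← mul_assoc, h.pow_q, zero_mul]
  rwa [h3, add_zero] at h2

omit [FiniteDimensional K A] [FiniteDimensional K V] in
theorem Setup.xf_ne (h : Setup t e x q ρ N v g f n a b) : x ^ (q - 1) * f ≠ 0 := by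
  intro h0
  apply h.pow_pred
  have hc : ∀ (k : ℕ) (y : A), x ^ k * y = y * x ^ k := fun k y =>
    (Commute.pow_left (show Commute x y from h.x_comm y) k)
  rw [← h.sum, mul_sum]
  refine sum_eq_zero fun i _ => ?_
  rw [← mul_assoc, ← mul_assoc, hc, mul_assoc (a i), h0, mul_zero, zero_mul]

omit [FiniteDimensional K A] [FiniteDimensional K V] in
theorem Setup.xqf (h : Setup t e x q ρ N v g f n a b) : x ^ q * f = 0 := by
  rw [← h.ef, ← mul_assoc, h.pow_q, zero_mul]

omit [FiniteDimensional K A] [FiniteDimensional K V] in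
/-- Peirce decomposition. -/
theorem Setup.peirce (h : Setup t e x q ρ N v g f n a b) {y : A} (hy : y * e = y) :
    y = ∑ i, ∑ k, a i * (f * (b i * y * a k) * f) * b k := by
  have h1 : y = e * y * e := by rw [h.e_comm, mul_assoc, h.e_idem, hy]
  conv_lhs => rw [h1, ← h.sum]
  rw [sum_mul, sum_mul]
  refine sum_congr rfl fun i _ => ?_
  rw [mul_sum]
  refine sum_congr rfl fun k _ => ?_
  have h2 : a i * f * b i * y * (a k * f * b k) = a i * f * b i * y * (a k * (f * f) * b k) := by
    rw [h.ff]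
  simp only [mul_assoc]

theorem Setup.free (h : Setup t e x q ρ N v g f n a b) {k : ℕ} (hk : k ≤ q) {y : A}
    (hy : y * e = y) (hxy : x ^ k * y = 0) : ∃ z : A, y = x ^ (q - k) * z * e := by
  have hc : ∀ (k : ℕ) (y : A), x ^ k * y = y * x ^ k := fun k y =>
    (Commute.pow_left (show Commute x y from h.x_comm y) k)
  have h1 : ∀ i j, ∃ z : A, f * (b i * y * a j) * f = x ^ (q - k) * z := by
    intro i j
    obtain ⟨c, hc'⟩ := h.cor_eq (cor_mem (K := K) h.ff (b i * y * a j))
    have h2 : x ^ k * ∑ i ∈ range q, c i • (x ^ i * f) = 0 := by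
      rw [← hc']
      have h3 : x ^ k * (f * (b i * y * a j) * f) = f * b i * (x ^ k * y) * (a j * f) := by
        have h4 : f * b i * (x ^ k * y) = x ^ k * (f * b i * y) := by
          rw [← mul_assoc, ← hc k (f * b i), mul_assoc]
        rw [h4]
        simp only [mul_assoc]
      rw [h3, hxy, mul_zero, zero_mul]
    have h3 := h.toSymData.coeff_eq_zero h.xf_ne h.xqf c h2
    refine ⟨∑ i ∈ range q, c i • (x ^ (i - (q - k)) * f), ?_⟩
    rw [hc', mul_sum]
    refine sum_congr rfl fun r hr => ?_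
    by_cases hrk : r + k < q
    · rw [h3 r hrk, zero_smul, zero_smul, mul_zero]
    · rw [mul_smul_comm, ← mul_assoc, ← pow_add]
      congr 3
      omega
  choose z hz using h1
  refine ⟨∑ i, ∑ j, a i * z i j * b j, ?_⟩
  have h2 : y = x ^ (q - k) * ∑ i, ∑ j, a i * z i j * b j := by
    conv_lhs => rw [h.peirce hy]
    rw [mul_sum]
    refine sum_congr rfl fun i _ => ?_
    rw [mul_sum]
    refine sum_congr rfl fun j _ => ?_
    rw [hz, ← mul_assoc (a i), ← hc]
    simp only [mul_assoc]
  rw [← h2, hy]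

theorem Setup.ker (h : Setup t e x q ρ N v g f n a b) {y : A}
    (hy : y * e = y) (hρy : ρ y = 0) : ∃ z : A, y = x * z * e := by
  have h1 : ∀ i j, ∃ z : A, f * (b i * y * a j) * f = x * z := by
    intro i j
    have h2 : f * (b i * y * a j) * f ∈ jac ρ f := by
      refine ⟨cor_mem h.ff _, ?_⟩
      change ρ _ = 0
      rw [map_mul, map_mul, map_mul, map_mul, hρy, mul_zero, zero_mul, mul_zero, zero_mul]
    obtain ⟨z, _, hz⟩ := mem_mulx.1 (h.jac_le_mulx h2)
    exact ⟨z, hz.symm⟩
  choose z hz using h1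
  refine ⟨∑ i, ∑ j, a i * z i j * b j, ?_⟩
  have h2 : y = x * ∑ i, ∑ j, a i * z i j * b j := by
    conv_lhs => rw [h.peirce hy]
    rw [mul_sum]
    refine sum_congr rfl fun i _ => ?_
    rw [mul_sum]
    refine sum_congr rfl fun j _ => ?_
    rw [hz, ← mul_assoc (a i), ← h.x_comm (a i)]
    simp only [mul_assoc]
  rw [← h2, hy]

end

end Corner

end Cfsg.Agent.H642
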