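import Mathlib
import Cfsg.Agent.Blocks.SimpleTrace
import Cfsg.Agent.H642.SymAlg

/-!
# Existence of the `Setup` of `Cfsg.Agent.H642.SymAlg`

Over an algebraically closed field the data `SymData` of a finite dimensional algebra determine
the block of `e` up to the dimension of its unique simple module.
-/

set_option autoImplicit false

namespace Cfsg.Agent.H642

open Finset
open Cfsg.Agent.Blocks.SimpleTrace

variable {K : Type*} [Field K] {A : Type*} [Ring A] [Algebra K A]

section Simple

variable {V : Type*} [AddCommGroup V] [Module K V] [Module A V] [IsScalarTower K A V]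

variable (K A V) in
/-- The action of the algebra on a module. -/
noncomputable def actHom : A →ₐ[K] Module.End K V :=
  AlgHom.ofLinearMap
    { toFun := fun a => (act a : V →ₗ[K] V)
      map_add' := fun a b => act_add a b
      map_smul' := fun c a => act_smul c a }
    act_one act_mul

theorem actHom_apply (a : A) (v : V) : actHom K A V a v = a • v := rfl

theorem exists_central_scalar [IsAlgClosed K] [FiniteDimensional K V] [IsSimpleModule A V] {z : A}
    (hz : ∀ a, z * a = a * z) : ∃ c : K, ∀ v : V, z • v = c • v := by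
  let g : V →ₗ[A] V :=
    { toFun := fun v => z • v
      map_add' := fun v w => smul_add _ _ _
      map_smul' := fun a v => by rw [RingHom.id_apply, smul_smul, hz, mul_smul] }
  obtain ⟨c, hc⟩ := (IsSimpleModule.algebraMap_end_bijective_of_isAlgClosed
    (A := A) (V := V) K).2 g
  refine ⟨c, fun v => ?_⟩
  have : g v = c • v := by rw [← hc]; rfl
  exact this

theorem actHom_surjective [IsAlgClosed K] [FiniteDimensional K V] [IsSimpleModule A V] :
    Function.Surjective (actHom K A V) := by
  intro T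
  let f : Module.End (Module.End A V) V :=
    { toFun := fun m => T m
      map_add' := fun x y => map_add _ _ _
      map_smul' := fun ψ m => by
        rw [RingHom.id_apply]
        obtain ⟨c, hc⟩ := (IsSimpleModule.algebraMap_end_bijective_of_isAlgClosed
          (A := A) (V := V) K).2 ψ
        have h1 : ∀ m : V, ψ • m = c • m := by
          intro m
          rw [← hc]; rfl
        rw [h1, h1, map_smul] }
  have hf : ∀ m, f m = T m := fun m => rfl
  obtain ⟨s, hs⟩ := Module.Finite.fg_top (R := K) (M := V)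
  obtain ⟨a, ha⟩ := jacobson_density f s
  refine ⟨a, LinearMap.ext fun m => ?_⟩
  rw [actHom_apply]
  have hm : m ∈ Submodule.span K (s : Set V) := by rw [hs]; trivial
  induction hm using Submodule.span_induction with
  | mem m hm => exact (ha m hm).symm
  | zero => rw [map_zero, smul_zero]
  | add x y _ _ hx hy => rw [map_add, smul_add, hx, hy]
  | smul c x _ hx =>
    rw [map_smul, ← hx]
    exact (act (F := K) a : V →ₗ[K] V).map_smul c x

end Simple

section Main

variable [IsAlgClosed K] [FiniteDimensional K A] {t : A →ₗ[K] K} {e x : A} {q : ℕ}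

omit [IsAlgClosed K] in
theorem isNilpotent_jacobson (K : Type*) [Field K] (A : Type*) [Ring A] [Algebra K A]
    [FiniteDimensional K A] : ∃ n : ℕ, (Ring.jacobson A) ^ n = ⊥ := by
  have : IsArtinianRing A := IsArtinianRing.of_finite K A
  obtain ⟨n, hn⟩ := IsSemiprimaryRing.isNilpotent (R := A)
  exact ⟨n, hn⟩

omit [IsAlgClosed K] in
theorem SymData.exists_coatom (h : SymData t e x q) : ∃ L : Ideal A, IsCoatom L ∧ e ∉ L := by
  by_contra hcon
  push Not at hcon
  have he : e ∈ Ring.jacobson A := by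
    rw [Ring.jacobson, Module.jacobson, Submodule.mem_sInf]
    intro L hL
    exact hcon L hL
  obtain ⟨n, hn⟩ := isNilpotent_jacobson K A
  have h1 : ∀ n : ℕ, e ^ (n + 1) = e := by
    intro n
    induction n with
    | zero => rw [zero_add, pow_one]
    | succ n ih => rw [pow_succ, ih, h.e_idem]
  have h2 : e ^ (n + 1) ∈ Ring.jacobson A ^ (n + 1) := Ideal.pow_mem_pow he _
  rw [h1, Submodule.pow_succ, hn] at h2
  have h3 : (⊥ : Ideal A) * Ring.jacobson A = ⊥ := Ideal.bot_mul _
  rw [h3, Ideal.mem_bot] at h2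
  apply h.pow_pred
  rw [h2, mul_zero]

theorem SymData.e_smul (h : SymData t e x q) {L : Ideal A} (hL : IsCoatom L) (he : e ∉ L)
    (v : A ⧸ L) : e • v = v := by
  have hs : IsSimpleModule A (A ⧸ L) := isSimpleModule_iff_isCoatom.2 hL
  obtain ⟨c, hc⟩ := exists_central_scalar (K := K) (V := A ⧸ L) h.e_comm
  have h1 : (Submodule.Quotient.mk e : A ⧸ L) ≠ 0 := by
    rw [Ne, Submodule.Quotient.mk_eq_zero]
    exact he
  have h2 : e • (Submodule.Quotient.mk (1 : A) : A ⧸ L) = Submodule.Quotient.mk e := by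
    rw [← Submodule.Quotient.mk_smul, smul_eq_mul, mul_one]
  have h3 : e • (Submodule.Quotient.mk e : A ⧸ L) = Submodule.Quotient.mk e := by
    rw [← Submodule.Quotient.mk_smul, smul_eq_mul, h.e_idem]
  rw [hc] at h3
  have h4 : (c - 1) • (Submodule.Quotient.mk e : A ⧸ L) = 0 := by
    rw [sub_smul, one_smul, h3, sub_self]
  have h5 : c = 1 := sub_eq_zero.1 ((smul_eq_zero.1 h4).resolve_right h1)
  rw [hc, h5, one_smul]

theorem SymData.x_smul (h : SymData t e x q) {L : Ideal A} (hL : IsCoatom L) (he : e ∉ L)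
    (v : A ⧸ L) : x • v = 0 := by
  have hs : IsSimpleModule A (A ⧸ L) := isSimpleModule_iff_isCoatom.2 hL
  obtain ⟨c, hc⟩ := exists_central_scalar (K := K) (V := A ⧸ L) h.x_comm
  have h1 : (Submodule.Quotient.mk e : A ⧸ L) ≠ 0 := by
    rw [Ne, Submodule.Quotient.mk_eq_zero]
    exact he
  have h2 : ∀ (n : ℕ) (v : A ⧸ L), x ^ n • v = c ^ n • v := by
    intro n
    induction n with
    | zero => intro v; rw [pow_zero, pow_zero, one_smul, one_smul]
    | succ n ih =>
      intro v
      rw [pow_succ, mul_smul, ih, hc, smul_smul, pow_succ]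
  have h3 : c ^ q • (Submodule.Quotient.mk e : A ⧸ L) = 0 := by
    rw [← h2, ← Submodule.Quotient.mk_smul, smul_eq_mul, h.pow_q, Submodule.Quotient.mk_zero]
  have h4 : c = 0 := eq_zero_of_pow_eq_zero ((smul_eq_zero.1 h3).resolve_right h1)
  rw [hc, h4, zero_smul]

/-- The trace of the action on `A ⧸ L`. -/
theorem SymData.trace_eq (h : SymData t e x q) {L : Ideal A} (hL : IsCoatom L) (he : e ∉ L) :
    ∃ c : K, ∀ a, LinearMap.trace K (A ⧸ L) (act a) = c * t (x ^ (q - 1) * e * a) := by
  let τ : A →ₗ[K] K := (LinearMap.trace K (A ⧸ L)).comp (actHom K A (A ⧸ L)).toLinearMap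
  have hτ : ∀ a, τ a = LinearMap.trace K (A ⧸ L) (act a) := fun a => rfl
  refine h.functional τ (fun a b => ?_) (fun a => ?_) (fun a => ?_)
  · rw [hτ, hτ, act_mul, act_mul, LinearMap.trace_mul_comm]
  · rw [hτ, act_mul]
    have h1 : (act x : (A ⧸ L) →ₗ[K] (A ⧸ L)) = 0 := LinearMap.ext fun v => h.x_smul hL he v
    rw [h1, zero_mul, map_zero]
  · rw [hτ, hτ, act_mul]
    have h1 : (act e : (A ⧸ L) →ₗ[K] (A ⧸ L)) = 1 := LinearMap.ext fun v => h.e_smul hL he v
    rw [h1, one_mul]

theorem SymData.equiv (h : SymData t e x q) {L L' : Ideal A} (hL : IsCoatom L) (he : e ∉ L)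
    (hL' : IsCoatom L') (he' : e ∉ L') : Nonempty ((A ⧸ L) ≃ₗ[A] (A ⧸ L')) := by
  by_contra hcon
  rw [not_nonempty_iff] at hcon
  let P : Bool → Ideal A := fun i => bif i then L else L'
  have hP : ∀ i, IsSimpleModule A (A ⧸ P i) := by
    intro i
    cases i
    · exact isSimpleModule_iff_isCoatom.2 hL'
    · exact isSimpleModule_iff_isCoatom.2 hL
  have hne : ∀ i j, i ≠ j → IsEmpty ((A ⧸ P i) ≃ₗ[A] (A ⧸ P j)) := by
    intro i j hij
    cases i <;> cases j
    · exact absurd rfl hij
    · exact ⟨fun f => hcon.false f.symm⟩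
    · exact ⟨fun f => hcon.false f⟩
    · exact absurd rfl hij
  obtain ⟨a, ha⟩ := exists_trace_dual (F := K) (A := A) (fun i => A ⧸ P i) hne true
  obtain ⟨b, hb⟩ := exists_trace_dual (F := K) (A := A) (fun i => A ⧸ P i) hne false
  have ha1 : LinearMap.trace K (A ⧸ L) (act a) = 1 := (ha true).trans (if_pos rfl)
  have ha2 : LinearMap.trace K (A ⧸ L') (act a) = 0 := (ha false).trans (if_neg (by decide))
  have hb1 : LinearMap.trace K (A ⧸ L') (act b) = 1 := (hb false).trans (if_pos rfl)
  obtain ⟨c, hc⟩ := h.trace_eq hL he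
  obtain ⟨c', hc'⟩ := h.trace_eq hL' he'
  rw [hc] at ha1
  rw [hc'] at ha2 hb1
  have h1 : c' ≠ 0 := by
    intro h0
    rw [h0, zero_mul] at hb1
    exact zero_ne_one hb1
  rw [(mul_eq_zero.1 ha2).resolve_left h1, mul_zero] at ha1
  exact zero_ne_one ha1

theorem SymData.ker'_le (h : SymData t e x q) {L : Ideal A} (hL : IsCoatom L) (he : e ∉ L)
    {a : A} (ha : a ∈ ker' (actHom K A (A ⧸ L)) e) : a ∈ Ring.jacobson A := by
  rw [Ring.jacobson, Module.jacobson, Submodule.mem_sInf]
  intro L' hL'
  by_cases he' : e ∈ L'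
  · rw [← ha.1, h.e_comm]
    exact L'.smul_mem a he'
  · obtain ⟨f⟩ := h.equiv hL' he' hL he
    have h1 : a • (Submodule.Quotient.mk (1 : A) : A ⧸ L') = 0 := by
      apply f.injective
      rw [map_smul, map_zero]
      exact LinearMap.congr_fun ha.2 _
    rw [← Submodule.Quotient.mk_smul, smul_eq_mul, mul_one, Submodule.Quotient.mk_eq_zero] at h1
    exact h1

theorem SymData.ker'_pow (h : SymData t e x q) {L : Ideal A} (hL : IsCoatom L) (he : e ∉ L) :
    ∃ N : ℕ, ker' (actHom K A (A ⧸ L)) e ^ N = ⊥ := by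
  obtain ⟨n, hn⟩ := isNilpotent_jacobson K A
  refine ⟨n + 1, ?_⟩
  have h1 : ∀ m : ℕ, ∀ a ∈ ker' (actHom K A (A ⧸ L)) e ^ (m + 1), a ∈ Ring.jacobson A ^ m := by
    intro m
    induction m with
    | zero =>
      intro a _
      rw [Submodule.pow_zero, Ideal.one_eq_top]
      trivial
    | succ m ih =>
      intro a ha
      rw [pow_succ] at ha
      have h2 : ker' (actHom K A (A ⧸ L)) e ^ (m + 1) * ker' (actHom K A (A ⧸ L)) e ≤
          (Ring.jacobson A ^ (m + 1)).restrictScalars K := by
        refine Submodule.mul_le.2 fun y hy z hz => ?_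
        rw [Submodule.restrictScalars_mem, Submodule.pow_succ]
        exact Ideal.mul_mem_mul (ih y hy) (h.ker'_le hL he hz)
      exact h2 ha
  rw [eq_bot_iff]
  intro a ha
  have h2 := h1 n a ha
  rw [hn] at h2
  exact h2

/-- All the structure. -/
theorem SymData.exists_setup (h : SymData t e x q) {L : Ideal A} (hL : IsCoatom L) (he : e ∉ L) :
    ∃ (N : ℕ) (v : A ⧸ L) (g : Module.Dual K (A ⧸ L)) (f : A) (n : ℕ) (a b : Fin n → A),
      Setup t e x q (actHom K A (A ⧸ L)) N v g f n a b := by
  have hs : IsSimpleModule A (A ⧸ L) := isSimpleModule_iff_isCoatom.2 hL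
  obtain ⟨N, hN⟩ := h.ker'_pow hL he
  have hnt : Nontrivial (A ⧸ L) := IsSimpleModule.nontrivial A (A ⧸ L)
  obtain ⟨v, hv⟩ := exists_ne (0 : A ⧸ L)
  obtain ⟨g, hg⟩ : ∃ f : Module.Dual K (A ⧸ L), f v = 1 := Module.Projective.exists_dual_eq_one K hv
  have hρe : actHom K A (A ⧸ L) e = 1 := LinearMap.ext fun v => h.e_smul hL he v
  have hρx : actHom K A (A ⧸ L) x = 0 := LinearMap.ext fun v => h.x_smul hL he v
  have hπ : (g.smulRight v : Module.End K (A ⧸ L)) * g.smulRight v = g.smulRight v := by
    refine LinearMap.ext fun w => ?_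
    rw [Module.End.mul_apply, LinearMap.smulRight_apply, LinearMap.smulRight_apply, map_smul, hg,
      smul_eq_mul, mul_one]
  obtain ⟨f, hef, hff, hρf⟩ := exists_idem h.e_comm h.e_idem hρe hN actHom_surjective hπ
  obtain ⟨n, a, b, hab⟩ := exists_full h.e_comm h.e_idem hρe hN actHom_surjective hg hef hρf
  exact ⟨N, v, g, f, n, a, b, { h with
    surj := actHom_surjective
    rho_e := hρe
    nil := hN
    rho_x := hρx
    gv := hg
    ef := hef
    ff := hff
    rho_f := hρf
    sum := hab }⟩

end Main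

end Cfsg.Agent.H642
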