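import Cfsg.Agent.H644.Maximal
import Cfsg.Agent.H625.Real

/-!
# Lifting the centre of `K[C_G(P)] e` to the centre of `K[G]`

`(P, e)` is a Brauer pair of the block `B` of `G` with `P` a defect group of `B`, and the stabilizer
of `(P, e)` is `C_G(P)`.

* `exists_lift`: every element of `Z(K[C_G(P)]) e` is `Br_P(z) e` for some `z ∈ Z(K[G])`;
* `exists_elt`: if `P` is cyclic of order `q`, there is `x ∈ Z(K[G])` with `λ_B(x) = 0` and
  `x ^ (q - 1) e_B ≠ 0`.
-/

set_option autoImplicit false
set_option linter.unusedSectionVars false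

open Cfsg

namespace Cfsg.Agent.H642

open Cfsg.Agent.H644 Cfsg.Agent.Blocks.Local
open Cfsg.Agent.Blocks.Basic (isPBlock_nonempty isPBlock_eq_of_mem)

variable {p : ℕ} {M : Ideal AlgInt} [M.IsPrime] {G : Type*} [Group G] [Finite G]

theorem tr_normalizer_mul (hM : IsPModular p M) {P : Subgroup G}
    {e : Set (IrrCharacter (Subgroup.centralizer (P : Set G)))} (he : IsPBlock M e)
    (a : MonoidAlgebra (ResField M) G) :
    tr P (Subgroup.normalizer (P : Set G)) (a * emb _ (idem M e)) * emb _ (idem M e) =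
      tr P (pairStab M P e) a * emb _ (idem M e) := by
  classical
  have := Fintype.ofFinite (G ⧸ P)
  set T := pairStab M P e with hT
  set i : MonoidAlgebra (ResField M) G := emb _ (idem M e) with hi
  have hii : i * i = i := mul_idem_emb _ hM (isUnion_of_isPBlock he)
  rw [tr_def, tr_def, Finset.sum_mul, Finset.sum_mul]
  refine Finset.sum_congr rfl fun q _ => ?_
  by_cases h1 : inCos P T q
  · have h2 : inCos P (Subgroup.normalizer (P : Set G)) q := h1.1
    rw [if_pos h1, if_pos h2, map_mul, isInv_iff_cj.1 (isInv_pairStab P e) _ h1, mul_assoc, hii]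
  · rw [if_neg h1, zero_mul]
    by_cases h2 : inCos P (Subgroup.normalizer (P : Set G)) q
    · rw [if_pos h2, map_mul, mul_assoc]
      have h3 : cj (qout q) i * i = 0 := by
        have hN := mem_normalizer_centralizer h2
        rw [hi, ← emb_idem_irrMap (qout q) _ _ (mem_iff_conj_mem_of_mem_normalizer hN),
          ← map_mul, idem_mul_idem_of_ne hM (isPBlock_irrMap he) he, map_zero]
        intro h4
        apply h1
        refine ⟨h2, ?_⟩
        rw [← emb_idem_irrMap (qout q) _ _ (mem_iff_conj_mem_of_mem_normalizer hN), h4]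
      rw [h3, mul_zero]
    · rw [if_neg h2, zero_mul]

/-- Every element of `Z(K[C_G(P)]) e` lifts to `Z(K[G])` if the stabilizer of `e` is `C_G(P)`. -/
theorem exists_lift (hM : IsPModular p M) {B : Set (IrrCharacter G)} {P : Subgroup G}
    {e : Set (IrrCharacter (Subgroup.centralizer (P : Set G)))}
    (hB : IsBrauerPairOf p M B P e) (hD : IsDefectGroup p M B P)
    (hT : pairStab M P e ≤ Subgroup.centralizer (P : Set G))
    {c : MonoidAlgebra (ResField M) (Subgroup.centralizer (P : Set G))} (hc : IsCls c) :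
    ∃ z : MonoidAlgebra (ResField M) G, IsCls z ∧ br P z * idem M e = c * idem M e := by
  have : Fact p.Prime := ⟨hM.1⟩
  have := charP_resField hM
  obtain ⟨ξ, hξ⟩ := isPBlock_nonempty hB.1.2
  have hmax := isMaximalBrauerPair_of_isDefectGroup hM hB hD
  obtain ⟨R, g, y, h1, hRT, hy, h2⟩ := exists_normal_extension hM hB.1 hξ
  have hR : R = P := hmax.2 R g ((isBrauerPairOf_iff_of_isNormalSubpair hM h1).2 hB)
    (subpairLE_of_isNormalSubpair h1)
  subst hR
  have hTL : pairStab M R e = Subgroup.centralizer (R : Set G) := le_antisymm hT (centralizer_le_pairStab R e)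
  rw [hTL] at h2 hRT
  have hyi : IsInv R (MonoidAlgebra.single y (1 : ResField M)) := isInv_single fun u hu => by
    rw [Subgroup.mem_centralizer_singleton_iff]
    exact (Subgroup.mem_centralizer_iff.1 hy) u hu
  set w := br R (tr R (Subgroup.centralizer (R : Set G)) (MonoidAlgebra.single y (1 : ResField M))) with hw
  have hwc : IsCls w := isCls_br (isInv_tr hRT hyi)
  obtain ⟨v, hv, hwv⟩ := exists_inv_of_lam hM hwc hB.1.2 hξ h2
  set a : MonoidAlgebra (ResField M) G := emb _ (c * v) * MonoidAlgebra.single y 1 with ha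
  set i : MonoidAlgebra (ResField M) G := emb _ (idem M e) with hi
  have hai : IsInv R a := isInv_mul (isInv_of_emb_centralizer R _) hyi
  have haii : IsInv R (a * i) := isInv_mul hai (isInv_of_emb_centralizer R _)
  refine ⟨tr R ⊤ (a * i), isCls_iff_isInv_top.2 (isInv_tr le_top haii), ?_⟩
  rw [br_tr_top hB.1.1 haii, ← br_mul_emb, tr_normalizer_mul hM hB.1.2, hTL, br_mul_emb, ha,
    ← mul_tr (isInv_emb (isCls_mul hc hv)), br_emb_mul, ← hw, mul_assoc c v w,
    isCls_comm hv w, mul_assoc c (w * v), hwv]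

theorem pow_sub_one_eq_sum {R : Type*} [CommRing R] [IsDomain R] (p : ℕ) [Fact p.Prime]
    [CharP R p] (a : ℕ) : ((Polynomial.X - 1 : Polynomial R)) ^ (p ^ a - 1) =
      ∑ j ∈ Finset.range (p ^ a), (Polynomial.X : Polynomial R) ^ j := by
  have h0 : (Polynomial.X - 1 : Polynomial R) ≠ 0 := by
    have := Polynomial.X_sub_C_ne_zero (1 : R)
    rwa [Polynomial.C_1] at this
  have hq : 0 < p ^ a := pow_pos (Fact.out : p.Prime).pos _
  have h1 : (Polynomial.X - 1 : Polynomial R) ^ (p ^ a) = Polynomial.X ^ (p ^ a) - 1 := by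
    rw [sub_pow_char_pow, one_pow]
  have h2 := geom_sum_mul (Polynomial.X : Polynomial R) (p ^ a)
  rw [← h1] at h2
  have h3 : (Polynomial.X - 1 : Polynomial R) ^ (p ^ a) =
      (Polynomial.X - 1) ^ (p ^ a - 1) * (Polynomial.X - 1) := by
    rw [← pow_succ]
    congr 1
    omega
  rw [h3] at h2
  exact (mul_right_cancel₀ h0 h2).symm

/-- In an algebra of characteristic `p`: `(s - 1) ^ (q - 1) = 1 + s + ... + s ^ (q - 1)`. -/
theorem sub_one_pow_eq_sum {K A : Type*} [Field K] [Ring A] [Algebra K A] (p : ℕ) [Fact p.Prime]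
    [CharP K p] (a : ℕ) (s : A) :
    (s - 1) ^ (p ^ a - 1) = ∑ j ∈ Finset.range (p ^ a), s ^ j := by
  have h1 := congrArg (Polynomial.aeval (R := K) s) (pow_sub_one_eq_sum (R := K) p a)
  rw [map_pow, map_sub, map_one, Polynomial.aeval_X, map_sum] at h1
  simpa using h1

theorem sub_one_pow_eq {K A : Type*} [Field K] [Ring A] [Algebra K A] (p : ℕ) [Fact p.Prime]
    [CharP K p] (a : ℕ) (s : A) :
    (s - 1) ^ (p ^ a) = s ^ (p ^ a) - 1 := by
  have h1 : (Polynomial.X - 1 : Polynomial K) ^ (p ^ a) = Polynomial.X ^ (p ^ a) - 1 := by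
    rw [sub_pow_char_pow, one_pow]
  have h2 := congrArg (Polynomial.aeval (R := K) s) h1
  rw [map_pow, map_sub, map_sub, map_one, map_pow, Polynomial.aeval_X] at h2
  exact h2

theorem isCls_single_of_mem_center {L : Type*} [Group L] [Finite L] {u : L}
    (hu : ∀ g : L, g * u = u * g) :
    IsCls (MonoidAlgebra.single u (1 : ResField M)) := by
  refine isCls_of_comm fun y => ?_
  induction y using MonoidAlgebra.induction_linear with
  | zero => rw [mul_zero, zero_mul]
  | add x y hx hy => rw [mul_add, add_mul, hx, hy]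
  | single x c =>
    rw [MonoidAlgebra.single_mul_single, MonoidAlgebra.single_mul_single, hu, one_mul, mul_one]

/-- The element of `Z(K[G])`. -/
theorem exists_elt (hM : IsPModular p M) {B : Set (IrrCharacter G)} {P : Subgroup G}
    {e : Set (IrrCharacter (Subgroup.centralizer (P : Set G)))}
    (hB : IsBrauerPairOf p M B P e) (hD : IsDefectGroup p M B P)
    (hT : pairStab M P e ≤ Subgroup.centralizer (P : Set G)) [IsCyclic P] {a : ℕ}
    (hP : Nat.card P = p ^ a) :
    ∃ z : MonoidAlgebra (ResField M) G, IsCls z ∧ (∀ χ ∈ B, lam M (χ : G → ℂ) z = 0) ∧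
      z ^ (p ^ a - 1) * idem M B ≠ 0 := by
  classical
  have : Fact p.Prime := ⟨hM.1⟩
  have := charP_resField hM
  obtain ⟨u, hu⟩ := IsCyclic.exists_generator (α := P)
  have hPL : P ≤ Subgroup.centralizer (P : Set G) := by
    intro g hg
    rw [Subgroup.mem_centralizer_iff]
    intro h hh
    have := (IsCyclic.commGroup (α := P)).mul_comm ⟨h, hh⟩ ⟨g, hg⟩
    exact congrArg Subtype.val this
  let uL : Subgroup.centralizer (P : Set G) := ⟨u, hPL u.2⟩
  have hordu : orderOf u = p ^ a := by rw [orderOf_eq_card_of_forall_mem_zpowers hu, hP]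
  have hord : orderOf uL = p ^ a := by
    rw [← hordu, ← Subgroup.orderOf_coe uL, ← Subgroup.orderOf_coe u]
  have hucen : ∀ g : Subgroup.centralizer (P : Set G), g * uL = uL * g := by
    intro g
    apply Subtype.ext
    exact ((Subgroup.mem_centralizer_iff.1 g.2) u u.2).symm
  set s : MonoidAlgebra (ResField M) (Subgroup.centralizer (P : Set G)) := MonoidAlgebra.single uL 1 with hs
  have hspow : ∀ j : ℕ, s ^ j = MonoidAlgebra.single (uL ^ j) 1 := by
    intro j
    rw [hs, MonoidAlgebra.single_pow, one_pow]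
  have hscls : IsCls s := isCls_single_of_mem_center hucen
  have hccls : IsCls (s - 1) := isCls_sub hscls isCls_one
  obtain ⟨z, hz, hzc⟩ := exists_lift hM hB hD hT hccls
  obtain ⟨ξ, hξ⟩ := isPBlock_nonempty hB.1.2
  have hUe := isUnion_of_isPBlock hB.1.2
  have hUB := isUnion_of_isPBlock hB.2.1
  refine ⟨z, hz, fun χ hχ => ?_, ?_⟩
  · rw [← lam_br_eq_lam hM hB hξ hχ hz]
    have h1 : lam M (ξ : Subgroup.centralizer (P : Set G) → ℂ) (br P z) = lam M (ξ : Subgroup.centralizer (P : Set G) → ℂ) (br P z * idem M e) := by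
      rw [lam_mul ξ (isCls_br_of_isCls hz) (isCls_idem e), lam_idem_of_mem hM hUe hξ, mul_one]
    rw [h1, hzc, lam_mul ξ hccls (isCls_idem e), lam_idem_of_mem hM hUe hξ, mul_one]
    have h2 : lam M (ξ : Subgroup.centralizer (P : Set G) → ℂ) (s - 1) ^ (p ^ a) = 0 := by
      rw [← lam_pow ξ hccls, sub_one_pow_eq (K := ResField M), hspow, ← hord, pow_orderOf_eq_one,
        ← MonoidAlgebra.one_def, sub_self, map_zero]
    exact eq_zero_of_pow_eq_zero h2
  · intro h0
    -- the Brauer map on powers
    have h1 : ∀ n : ℕ, br P (z ^ n * idem M B) * idem M e = (s - 1) ^ n * idem M e := by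
      intro n
      have hbc := isCls_br_of_isCls (P := P) (isCls_idem (M := M) B)
      have hbe : br P (idem M B) * idem M e = idem M e := by
        refine mul_idem_of_lam_eq_one hM hbc ?_ hUe ?_
        · rw [← br_mul (p := p) hB.1.1 (isInv_of_isCls (isCls_idem B) _)
            (isInv_of_isCls (isCls_idem B) _), idem_mul_self hM hUB]
        · exact ((isBrauerPairOf_iff hM).1 hB).2.2
      induction n with
      | zero => rw [pow_zero, pow_zero, one_mul, one_mul, hbe]
      | succ n ih =>
        have hi1 := isInv_of_isCls (isCls_mul (isCls_pow hz n) (isCls_idem (M := M) B)) P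
        rw [pow_succ', mul_assoc, br_mul (p := p) hB.1.1 (isInv_of_isCls hz P) hi1, mul_assoc,
          ih, isCls_comm (isCls_pow hccls n), ← mul_assoc, hzc, mul_assoc, ← isCls_comm
          (isCls_pow hccls n), ← mul_assoc, ← pow_succ']
    have h2 := h1 (p ^ a - 1)
    rw [h0, map_zero, zero_mul, sub_one_pow_eq_sum (K := ResField M), Finset.sum_mul] at h2
    -- a nonzero coefficient of the idempotent
    obtain ⟨g, hg⟩ : ∃ g : Subgroup.centralizer (P : Set G), (idem M e).coeff g ≠ 0 := by
      by_contra hcon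
      push Not at hcon
      exact idem_ne_zero hM hUe ⟨ξ, hξ⟩ (ext_coeff fun g => by
        rw [hcon g, MonoidAlgebra.coeff_zero, Finsupp.zero_apply])
    have hzero : ∀ g : Subgroup.centralizer (P : Set G), p ∣ orderOf g → (idem M e).coeff g = 0 := by
      intro g hg
      rw [coeff_idem, Cfsg.Agent.H625.Real.blockCoeff_eq_zero hM hB.1.2 hg, redC_zero]
    have hgreg : ¬ p ∣ orderOf g := fun h => hg (hzero g h)
    have h3 := congrArg (fun w => w.coeff g) h2
    simp only [MonoidAlgebra.coeff_sum, Finsupp.finsetSum_apply, hspow,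
      MonoidAlgebra.coeff_single_mul_apply, one_mul] at h3
    rw [MonoidAlgebra.coeff_zero, Finsupp.zero_apply,
      Finset.sum_eq_single_of_mem 0 (Finset.mem_range.2 (pow_pos (Fact.out : p.Prime).pos _))] at h3
    · rw [pow_zero, inv_one, one_mul] at h3
      exact hg h3.symm
    · intro j hj hj0
      apply hzero
      have hcom : Commute (uL ^ j)⁻¹ g := by
        have : Commute uL g := (hucen g).symm
        exact (this.pow_left j).inv_left
      have hpj : p ∣ orderOf (uL ^ j)⁻¹ := by
        rw [orderOf_inv]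
        have h4 : orderOf (uL ^ j) ∣ p ^ a := by
          rw [← hord]; exact orderOf_pow_dvd j
        obtain ⟨k, -, hk⟩ := (Nat.dvd_prime_pow (Fact.out : p.Prime)).1 h4
        rw [hk]
        apply dvd_pow_self
        rintro rfl
        rw [pow_zero, orderOf_eq_one_iff] at hk
        have h5 := orderOf_dvd_of_pow_eq_one hk
        rw [hord] at h5
        have h6 := Finset.mem_range.1 hj
        exact absurd (Nat.le_of_dvd (Nat.pos_of_ne_zero hj0) h5) (by omega)
      have hcop : (orderOf (uL ^ j)⁻¹).Coprime (orderOf g) := by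
        rw [orderOf_inv]
        have h4 : orderOf (uL ^ j) ∣ p ^ a := by
          rw [← hord]; exact orderOf_pow_dvd j
        refine Nat.Coprime.coprime_dvd_left h4 (Nat.Coprime.pow_left _ ?_)
        exact ((Fact.out : p.Prime).coprime_iff_not_dvd).2 hgreg
      rw [hcom.orderOf_mul_eq_mul_orderOf_of_coprime hcop]
      exact Dvd.dvd.mul_right hpj _

end Cfsg.Agent.H642
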