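import Cfsg.Agent.H613.SubFus
import Cfsg.Agent.H802.FusNorm
import Cfsg.Agent.S4677

/-!
# Fusion of the elements of a cyclic subgroup of a 2-group

* `exists_mem_conj`: `a` a maximal pair, `R` normal in `a.1` with `Aut(R)` a `p`-group; the stabilizer
  of the pair `(R, f)` below `a` acts on `R` as `a.1`.
* `eq_or_eq_inv`: `x ∈ a.1` is a 2-element such that the elements of `a.1` centralize or invert `x`; then
  fused powers of `x` are equal or inverse.
-/

set_option autoImplicit false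
set_option linter.unusedSectionVars false

open Cfsg

namespace Cfsg.Agent.H642.DihFus

open Cfsg.Agent.H649 Cfsg.Agent.Characters
open Cfsg.Agent.H613.SubSys Cfsg.Agent.H613.SubFus

universe u

variable {p : ℕ} [Fact p.Prime] {M : Ideal AlgInt} {G : Type u} [Group G] [Finite G]
  {B : Set (IrrCharacter G)} {a : BrauerPairIdx G}

theorem exists_mem_conj (hM : IsPModular p M) (hmax : IsMaximalBrauerPair p M B a.1 a.2)
    {R : Subgroup G} (hR : R ≤ a.1) (hn : a.1 ≤ Subgroup.normalizer (R : Set G))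
    (hAut : IsPGroup p (MulAut R))
    {f : Set (IrrCharacter (Subgroup.centralizer (R : Set G)))} (hf : LEIdx p M ⟨R, f⟩ a) {g : G}
    (hg : conjIdx g ⟨R, f⟩ = ⟨R, f⟩) : ∃ d ∈ a.1, ∀ r ∈ R, g * r * g⁻¹ = d * r * d⁻¹ := by
  have := Fintype.ofFinite G
  obtain ⟨P, e⟩ := a
  obtain ⟨F, hF, hsat⟩ := Cfsg.Agent.S4677.result p M hM B P e hmax
  have hPp : IsPGroup p P := hmax.1.1.1
  have hfn : F.IsFullyNormalized R := by
    refine ⟨hR, fun Q _ => ?_⟩
    have h1 : Cfsg.FusionSystem.normalizerIn P R = P := inf_eq_left.2 hn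
    rw [h1]
    exact Subgroup.card_le_of_le inf_le_left
  obtain ⟨-, S, hS⟩ := Cfsg.Agent.H802.isFullyAutomized_of_isFullyNormalized hPp hsat hfn
  have hmap : R.map (MulAut.conj g).toMonoidHom = R := congrArg (fun b => b.1) hg
  let α : MulAut R := ((MulAut.conj g).subgroupMap R).trans (MulEquiv.subgroupCongr hmap)
  have hα : ∀ r : R, ((α r : R) : G) = g * r * g⁻¹ := fun r => rfl
  have hαF : α ∈ F.autGroup R := by
    refine (Cfsg.Agent.H802.mem_autGroup_iff F hR α).2 ((hF.2 R _).2 ⟨hR, g, hα, ?_, f, hf, ?_⟩)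
    · rw [hmap]; exact hR
    · have h1 : LEIdx p M (conjIdx g ⟨R, f⟩) ⟨P, e⟩ := by rw [hg]; exact hf
      rw [conjIdx_mk] at h1
      exact h1
  have hp' : IsPGroup p (F.autGroup R) := hAut.to_subgroup _
  have hStop : (S : Subgroup (F.autGroup R)) = ⊤ := by
    have h1 := S.3 (Q := ⊤) (hp'.of_equiv Subgroup.topEquiv.symm) le_top
    exact h1.symm
  have h2 : (⟨α, hαF⟩ : F.autGroup R) ∈ (autInducedBy P R).subgroupOf (F.autGroup R) := by
    rw [← hS, hStop]
    exact Subgroup.mem_top _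
  obtain ⟨d, hd, hdα⟩ := (Cfsg.Agent.H802.mem_autInducedBy_iff P R α).1
    (Subgroup.mem_subgroupOf.1 h2)
  exact ⟨d, hd, fun r hr => (hα ⟨r, hr⟩).symm.trans (hdα ⟨r, hr⟩)⟩

theorem isPGroup_mulAut {R : Type*} [Group R] [Finite R] (hR : IsPGroup 2 R) (hc : IsCyclic R) :
    IsPGroup 2 (MulAut R) := by
  obtain ⟨n, hn⟩ := IsPGroup.iff_card.1 hR
  have h1 : Nat.card (MulAut R) = Nat.totient (Nat.card R) := IsCyclic.card_mulAut R
  rcases n with _ | n
  · refine IsPGroup.of_card (n := 0) ?_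
    rw [h1, hn]; simp
  · refine IsPGroup.of_card (n := n) ?_
    rw [h1, hn, Nat.totient_prime_pow_succ Nat.prime_two]; simp

theorem bel_congr (hM : IsPModular p M) (ha : IsBrauerPair p M a.1 a.2) {u v : G} (hu : u ∈ a.1)
    (h : Subgroup.zpowers u = Subgroup.zpowers v) : bel p M a u = bel p M a v :=
  eq_bel hM ha (by rw [bel_fst, h]) (bel_le hM ha hu)

/-- Two subgroups of the same order of a cyclic group are equal. -/
theorem eq_of_card_eq {D : Subgroup G} (hc : IsCyclic D) {Q R : Subgroup G} (hQD : Q ≤ D)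
    (hRD : R ≤ D) (h : Nat.card Q = Nat.card R) : Q = R := by
  classical
  have := Fintype.ofFinite D
  have key : ∀ {S : Subgroup G}, S ≤ D →
      (Finset.univ.filter fun a : D => (a : G) ∈ S) =
        (Finset.univ.filter fun a : D => a ^ Nat.card S = 1) := by
    intro S hSD
    apply Finset.eq_of_subset_of_card_le
    · intro a ha
      rw [Finset.mem_filter] at ha ⊢
      refine ⟨Finset.mem_univ _, ?_⟩
      have h3 := pow_card_eq_one' (G := S) (x := ⟨a, ha.2⟩)
      apply Subtype.ext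
      have h5 := congrArg Subtype.val h3
      rw [Subgroup.coe_pow] at h5
      rw [Subgroup.coe_pow]
      exact h5
    · have h4 : (Finset.univ.filter fun a : D => (a : G) ∈ S).card = Nat.card S := by
        rw [← Fintype.card_subtype, ← Nat.card_eq_fintype_card]
        exact Nat.card_congr ⟨fun a => ⟨a.1.1, a.2⟩, fun a => ⟨⟨a.1, hSD a.2⟩, a.2⟩,
          fun _ => rfl, fun _ => rfl⟩
      rw [h4]
      exact IsCyclic.card_pow_eq_one_le (α := D) Nat.card_pos
  have hQR := key hQD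
  rw [h, ← key hRD] at hQR
  ext x
  constructor
  · intro hx
    have h5 : (⟨x, hQD hx⟩ : D) ∈ Finset.univ.filter fun a : D => (a : G) ∈ Q :=
      Finset.mem_filter.mpr ⟨Finset.mem_univ _, hx⟩
    rw [hQR] at h5
    exact (Finset.mem_filter.mp h5).2
  · intro hx
    have h5 : (⟨x, hRD hx⟩ : D) ∈ Finset.univ.filter fun a : D => (a : G) ∈ R :=
      Finset.mem_filter.mpr ⟨Finset.mem_univ _, hx⟩
    rw [← hQR] at h5
    exact (Finset.mem_filter.mp h5).2

/-- Fused powers of `x` are equal or inverse. -/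
theorem eq_or_eq_inv [hp2 : Fact (Nat.Prime 2)] (hM : IsPModular 2 M)
    (hmax : IsMaximalBrauerPair 2 M B a.1 a.2) {x : G}
    (hx : x ∈ a.1) (hinv : ∀ d ∈ a.1, d * x * d⁻¹ = x ∨ d * x * d⁻¹ = x⁻¹) {u v : G}
    (hu : u ∈ Subgroup.zpowers x) (hv : v ∈ Subgroup.zpowers x)
    (h : Fus 2 M a u v) : v = u ∨ v = u⁻¹ := by
  have hle : Subgroup.zpowers x ≤ a.1 := by rwa [Subgroup.zpowers_le]
  have hord := h.orderOf_eq
  obtain ⟨g, hg1, hg2⟩ := h
  have hP2 : IsPGroup 2 a.1 := hmax.1.1.1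
  have hz : Subgroup.zpowers u = Subgroup.zpowers v := by
    refine eq_of_card_eq (D := Subgroup.zpowers x) inferInstance (Subgroup.zpowers_le.2 hu)
      (Subgroup.zpowers_le.2 hv) ?_
    rw [Nat.card_zpowers, Nat.card_zpowers, hord]
  have hact : ∀ d ∈ a.1, ∀ w ∈ Subgroup.zpowers x, d * w * d⁻¹ = w ∨ d * w * d⁻¹ = w⁻¹ := by
    intro d hd w hw
    obtain ⟨k, rfl⟩ := hw
    change d * x ^ k * d⁻¹ = x ^ k ∨ d * x ^ k * d⁻¹ = (x ^ k)⁻¹
    rw [← conj_zpow]
    rcases hinv d hd with h1 | h1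
    · left; rw [h1]
    · right; rw [h1, inv_zpow]
  have hn : a.1 ≤ Subgroup.normalizer ((Subgroup.zpowers u : Subgroup G) : Set G) := by
    have key : ∀ d ∈ a.1, ∀ w ∈ Subgroup.zpowers u, d * w * d⁻¹ ∈ Subgroup.zpowers u := by
      intro d hd w hw
      have hwx : w ∈ Subgroup.zpowers x := (Subgroup.zpowers_le.2 hu) hw
      rcases hact d hd w hwx with h1 | h1
      · rw [h1]; exact hw
      · rw [h1]; exact inv_mem hw
    intro d hd
    rw [Subgroup.mem_normalizer_iff]
    intro w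
    refine ⟨key d hd w, fun hw => ?_⟩
    have h1 := key d⁻¹ (inv_mem hd) _ hw
    have h2 : d⁻¹ * (d * w * d⁻¹) * d⁻¹⁻¹ = w := by group
    rwa [h2] at h1
  have huP : u ∈ a.1 := hle hu
  have hR : Subgroup.zpowers u ≤ a.1 := by rwa [Subgroup.zpowers_le]
  have hAut : IsPGroup 2 (MulAut (Subgroup.zpowers u)) :=
    isPGroup_mulAut (hP2.to_le hR) inferInstance
  have hb := bel_congr hM hmax.1.1 huP hz
  rw [← hb] at hg2
  obtain ⟨d, hd, hdr⟩ := exists_mem_conj hM hmax hR hn hAut (bel_le hM hmax.1.1 huP) hg2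
  rw [← hg1, hdr u (Subgroup.mem_zpowers u)]
  exact hact d hd u hu

end Cfsg.Agent.H642.DihFus
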