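import Cfsg.Agent.H642.SubCount
import Cfsg.Agent.H642.DihFus
import Cfsg.Agent.H644.CentralQuot
import Cfsg.Agent.H644.Maximal
import Cfsg.Agent.S4434
import Cfsg.Agent.S0912
import Cfsg.Agent.S0206
import Cfsg.Prelude.Def_CaseTheorems
import Mathlib.GroupTheory.SpecificGroups.Dihedral

/-!
# The centre of a group with a dihedral or semidihedral 2-block of rank three

`K4528`: the bound `k(B) ≤ 2 ^ (n - 2) + 3` for dihedral defect groups of order `2 ^ n`.
`not_central_dihedral`, `not_central_semidihedral`: then a block of rank three with dihedral or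
semidihedral defect group forces the centre to have odd order.
-/

set_option autoImplicit false
set_option linter.unusedSectionVars false

open Cfsg

namespace Cfsg.Agent.H642.TameCenter

open Cfsg.Agent.H649 Cfsg.Agent.H644 Cfsg.Agent.Characters
open Cfsg.Agent.H613.SubSys Cfsg.Agent.H613.SubFus

universe u

/-- The bound for the number of characters in dihedral 2-blocks. -/
def K4528 (M : Ideal AlgInt) : Prop := ∀ (G : Type u) [Group G] [Finite G] (B : Set (IrrCharacter G)),
  IsPBlock M B → ∀ (D : Subgroup G), IsDefectGroup 2 M B D → ∀ (n : ℕ), 3 ≤ n →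
  Nonempty (D ≃* DihedralGroup (2 ^ (n - 1))) → Nat.card B ≤ 2 ^ (n - 2) + 3

section

variable [hp2 : Fact (Nat.Prime 2)] {M : Ideal AlgInt} {G : Type u} [Group G] [Finite G]
  {B : Set (IrrCharacter G)}

/-- If `k(B) ≤ h + 3` and `l(B) = 3` then all involutions are fused to `x ^ h`. -/
theorem fused (hM : IsPModular 2 M) {a : BrauerPairIdx G}
    (hmax : IsMaximalBrauerPair 2 M B a.1 a.2) {x : G} (hx : x ∈ a.1)
    (hinv : ∀ d ∈ a.1, d * x * d⁻¹ = x ∨ d * x * d⁻¹ = x⁻¹) {h : ℕ}
    (hord : orderOf x = 2 * h) (hk : Nat.card B ≤ h + 3) (hl : blockRank 2 B = 3) {y : G}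
    (hy : y ∈ a.1) (hy1 : y ≠ 1) (hy2 : y * y = 1) : Fus 2 M a y (x ^ h) := by
  classical
  by_contra hcon
  let w : Option (Fin h) → G := fun o => o.elim y (fun i => x ^ ((i : ℕ) + 1))
  have hinj : ∀ k l, Fus 2 M a (w k) (w l) → k = l := by
    have key : ∀ i : Fin h, ¬ Fus 2 M a (x ^ ((i : ℕ) + 1)) y := by
      intro i hi
      have h1 := hi.orderOf_eq
      have h2 : orderOf y = 2 := orderOf_eq_prime (by rw [pow_two, hy2]) hy1
      rw [h2] at h1
      have h3 : x ^ (((i : ℕ) + 1) * 2) = 1 := by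
        rw [pow_mul, ← h1, pow_orderOf_eq_one]
      have h4 := orderOf_dvd_of_pow_eq_one h3
      rw [hord, mul_comm 2 h] at h4
      have h5 := Nat.dvd_of_mul_dvd_mul_right (by norm_num : 0 < 2) h4
      have h6 := Nat.le_of_dvd (Nat.succ_pos _) h5
      have h7 : (i : ℕ) + 1 = h := by have := i.2; omega
      rw [h7] at hi
      exact hcon hi.symm
    intro k l hkl
    rcases k with _ | i <;> rcases l with _ | j
    · rfl
    · exact absurd hkl.symm (key j)
    · exact absurd hkl (key i)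
    · have hi := i.2
      have hj := j.2
      have h1 := DihFus.eq_or_eq_inv hM hmax hx hinv
        (u := x ^ ((i : ℕ) + 1)) (v := x ^ ((j : ℕ) + 1)) (Subgroup.npow_mem_zpowers x _)
        (Subgroup.npow_mem_zpowers x _) hkl
      congr 1
      apply Fin.ext
      rcases h1 with h1 | h1
      · rw [pow_inj_mod, hord] at h1
        rw [Nat.mod_eq_of_lt (by omega), Nat.mod_eq_of_lt (by omega)] at h1
        omega
      · rw [eq_inv_iff_mul_eq_one, ← pow_add] at h1
        have h2 := orderOf_dvd_of_pow_eq_one h1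
        rw [hord] at h2
        have h3 := Nat.le_of_dvd (by omega) h2
        omega
  have h1 : ∀ k, w k ∈ a.1 := by
    rintro (_ | i)
    · exact hy
    · exact pow_mem hx _
  have h2 : ∀ k, w k ≠ 1 := by
    rintro (_ | i)
    · exact hy1
    · intro h3
      have h4 := orderOf_dvd_of_pow_eq_one h3
      rw [hord] at h4
      have h5 := Nat.le_of_dvd (Nat.succ_pos _) h4
      have := i.2
      omega
  have h3 := SubCount.add_card_le hM hmax w h1 h2 hinj
  rw [Fintype.card_option, Fintype.card_fin, hl] at h3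
  omega

end

/-- Elements of a group isomorphic to a dihedral group. -/
theorem exists_dihedral_gens {G : Type*} [Group G] {D : Subgroup G} {N : ℕ}
    (e : D ≃* DihedralGroup N) : ∃ x ∈ D, ∃ y ∈ D, orderOf x = N ∧ y * y = 1 ∧
      y * x * y⁻¹ = x⁻¹ ∧ ∀ d ∈ D, d * x * d⁻¹ = x ∨ d * x * d⁻¹ = x⁻¹ := by
  let x : D := e.symm (DihedralGroup.r 1)
  let y : D := e.symm (DihedralGroup.sr 0)
  have hx : e x = DihedralGroup.r 1 := e.apply_symm_apply _
  have hy : e y = DihedralGroup.sr 0 := e.apply_symm_apply _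
  have key : ∀ d : D, d * x * d⁻¹ = x ∨ d * x * d⁻¹ = x⁻¹ := by
    intro d
    rcases hd : e d with i | i
    · left
      apply e.injective
      rw [map_mul, map_mul, map_inv, hx, hd]
      simp [DihedralGroup.inv_r]
    · right
      apply e.injective
      rw [map_mul, map_mul, map_inv, map_inv, hx, hd]
      simp [DihedralGroup.inv_sr, DihedralGroup.inv_r]
  refine ⟨x, x.2, y, y.2, ?_, ?_, ?_, ?_⟩
  · rw [Subgroup.orderOf_coe, ← MulEquiv.orderOf_eq e, hx, DihedralGroup.orderOf_r_one]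
  · have h1 : y * y = 1 := by
      apply e.injective
      rw [map_mul, hy, map_one]
      simp
    exact congrArg Subtype.val h1
  · have h1 : y * x * y⁻¹ = x⁻¹ := by
      apply e.injective
      rw [map_mul, map_mul, map_inv, map_inv, hx, hy]
      simp [DihedralGroup.inv_sr, DihedralGroup.inv_r]
    exact congrArg Subtype.val h1
  · intro d hd
    rcases key ⟨d, hd⟩ with h | h
    · exact Or.inl (congrArg Subtype.val h)
    · exact Or.inr (congrArg Subtype.val h)

/-- Recognition of dihedral groups. -/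
theorem nonempty_dihedral {D : Type*} [Group D] [Finite D] {N : ℕ} (hN : 2 < N) {x y : D}
    (hx : orderOf x = N) (hy : y * y = 1) (hxy : y * x * y⁻¹ = x⁻¹) (hc : Nat.card D = 2 * N) :
    Nonempty (D ≃* DihedralGroup N) := by
  have hy1 : y ≠ 1 := by
    rintro rfl
    have h1 : x = x⁻¹ := by simpa using hxy
    have h2 : x ^ 2 = 1 := by
      rw [pow_two]
      nth_rewrite 2 [h1]
      exact mul_inv_cancel x
    have h3 := Nat.le_of_dvd (by norm_num) (orderOf_dvd_of_pow_eq_one h2)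
    omega
  have hyinv : y⁻¹ = y := inv_eq_of_mul_eq_one_right hy
  have hz2 : x * y * (x * y) = 1 := by
    have h1 : y * x = x⁻¹ * y := by
      rw [← hxy]; group
    calc x * y * (x * y) = x * (y * x) * y := by group
      _ = x * (x⁻¹ * y) * y := by rw [h1]
      _ = y * y := by group
      _ = 1 := hy
  have hord2 : x * x ≠ 1 := by
    intro h2
    have h3 := Nat.le_of_dvd (by norm_num) (orderOf_dvd_of_pow_eq_one ((pow_two x).trans h2))
    omega
  have hz1 : x * y ≠ 1 := by
    intro h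
    have h1 : x = y := by rw [← hyinv]; exact eq_inv_of_mul_eq_one_left h
    rw [h1] at hord2
    exact hord2 hy
  have ha : orderOf (x * y) = 2 := orderOf_eq_prime (by rw [pow_two, hz2]) hz1
  have hb : orderOf y = 2 := orderOf_eq_prime (by rw [pow_two, hy]) hy1
  have hab : x * y ≠ y := by
    intro h
    have h1 : x = 1 := mul_eq_right.1 h
    rw [h1, one_mul] at hord2
    exact hord2 rfl
  obtain ⟨e⟩ := Cfsg.Agent.S0206.result (x * y) y ha hb hab
  have h1 : x * y * y = x := by rw [mul_assoc, hy, mul_one]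
  rw [h1, hx] at e
  have hNz : NeZero N := ⟨by omega⟩
  have h2 : Nat.card (Subgroup.closure ({x * y, y} : Set D)) = Nat.card D := by
    rw [Nat.card_congr e.toEquiv, DihedralGroup.nat_card, hc]
  have h3 : Subgroup.closure ({x * y, y} : Set D) = ⊤ := Subgroup.eq_top_of_card_eq _ h2
  exact ⟨Subgroup.topEquiv.symm.trans ((MulEquiv.subgroupCongr h3.symm).trans e)⟩

theorem mem_defect_of_central {p : ℕ} [Fact p.Prime] {M : Ideal AlgInt} {G : Type u} [Group G]
    [Finite G] {B : Set (IrrCharacter G)} (hM : IsPModular p M) (hB : IsPBlock M B)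
    {D : Subgroup G} (hD : IsDefectGroup p M B D) {t : G} (ht : t ∈ Subgroup.center G)
    (htp : t ^ p = 1) : t ∈ D := by
  refine Cfsg.Agent.S0912.result p M hM B hB D hD ?_
  have hle : Subgroup.zpowers t ≤ Subgroup.center G := by rwa [Subgroup.zpowers_le]
  have hn : (Subgroup.zpowers t).Normal := by
    refine ⟨fun n hn g => ?_⟩
    rw [Subgroup.mem_center_iff.1 (hle hn) g, mul_inv_cancel_right]
    exact hn
  have hp : IsPGroup p (Subgroup.zpowers t) := by
    have h1 : orderOf t ∣ p ^ 1 := by rw [pow_one]; exact orderOf_dvd_of_pow_eq_one htp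
    obtain ⟨k, -, hk⟩ := (Nat.dvd_prime_pow Fact.out).1 h1
    exact IsPGroup.of_card (n := k) (by rw [Nat.card_zpowers, hk])
  exact Cfsg.Agent.Lib.Cores.le_pCore hn hp (Subgroup.mem_zpowers t)

section

variable {M : Ideal AlgInt} {G : Type u} [Group G] [Finite G] {B : Set (IrrCharacter G)}

theorem not_central_dihedral (hK : K4528.{u} M) (hM : IsPModular 2 M) (hB : IsPBlock M B)
    {D : Subgroup G} (hD : IsDefectGroup 2 M B D) {n : ℕ} (hn : 3 ≤ n)
    (e : D ≃* DihedralGroup (2 ^ (n - 1))) (hl : blockRank 2 B = 3) {t : G}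
    (ht : t ∈ Subgroup.center G) (ht1 : t ≠ 1) (ht2 : t * t = 1) : False := by
  have hp2 : Fact (Nat.Prime 2) := ⟨Nat.prime_two⟩
  have : M.IsPrime := Blocks.Local.isPrime_of_isPModular hM
  have hk := hK G B hB D hD n hn ⟨e⟩
  obtain ⟨f, hf⟩ := exists_pair_of_le_isDefectGroup hM hB hD le_rfl
  have hmax : IsMaximalBrauerPair 2 M B (⟨D, f⟩ : BrauerPairIdx G).1
    (⟨D, f⟩ : BrauerPairIdx G).2 := isMaximalBrauerPair_of_isDefectGroup hM hf hD
  obtain ⟨x, hx, y, hy, hxo, hy2, hyx, hinv⟩ := exists_dihedral_gens e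
  have h1 : 2 ^ (n - 1) = 2 * 2 ^ (n - 2) := by
    rw [← pow_succ']; congr 1; omega
  have h4 : 4 ≤ 2 ^ (n - 1) := by
    calc 4 = 2 ^ 2 := by norm_num
      _ ≤ 2 ^ (n - 1) := Nat.pow_le_pow_right (by norm_num) (by omega)
  have hxx : x * x ≠ 1 := by
    intro h2
    have h3 := Nat.le_of_dvd (by norm_num) (orderOf_dvd_of_pow_eq_one ((pow_two x).trans h2))
    omega
  have hy1 : y ≠ 1 := by
    rintro rfl
    have h2 : x = x⁻¹ := by simpa using hyx
    apply hxx
    nth_rewrite 2 [h2]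
    exact mul_inv_cancel x
  have htD : t ∈ D := mem_defect_of_central hM hB hD ht (by rw [pow_two, ht2])
  have hf1 := fused hM hmax hx hinv (h := 2 ^ (n - 2)) (hxo.trans h1) hk hl htD ht1 ht2
  have hf2 := fused hM hmax hx hinv (h := 2 ^ (n - 2)) (hxo.trans h1) hk hl hy hy1 hy2
  obtain ⟨g, hg, -⟩ := hf1.trans hf2.symm
  have h5 : t = y := by
    rw [← hg, Subgroup.mem_center_iff.1 ht g, mul_inv_cancel_right]
  have h6 : y * x * y⁻¹ = x := by
    rw [← h5, ← Subgroup.mem_center_iff.1 ht x, mul_inv_cancel_right]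
  rw [hyx] at h6
  apply hxx
  nth_rewrite 1 [← h6]
  exact inv_mul_cancel x

theorem not_central_semidihedral (hK : K4528.{u} M) (hM : IsPModular 2 M) (hB : IsPBlock M B)
    {D : Subgroup G} (hD : IsDefectGroup 2 M B D) (hq : IsQuasiDihedral D)
    (hl : blockRank 2 B = 3) {t : G}
    (ht : t ∈ Subgroup.center G) (ht1 : t ≠ 1) (ht2 : t * t = 1) : False := by
  classical
  have hp2 : Fact (Nat.Prime 2) := ⟨Nat.prime_two⟩
  have : M.IsPrime := Blocks.Local.isPrime_of_isPModular hM
  have := Fintype.ofFinite G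
  obtain ⟨n, hn, hc, x, y, hx, hy, hyx⟩ := hq
  have hy2 : y * y = 1 := by rw [← pow_two, ← hy, pow_orderOf_eq_one]
  have hy1 : y ≠ 1 := by
    rintro rfl
    rw [orderOf_one] at hy
    omega
  have h1 : 2 ^ n = 2 * 2 ^ (n - 1) := by
    rw [← pow_succ']; congr 1; omega
  have h1' : 2 ^ (n - 1) = 2 * 2 ^ (n - 2) := by
    rw [← pow_succ']; congr 1; omega
  have h4 : 4 ≤ 2 ^ (n - 1) := by
    calc 4 = 2 ^ 2 := by norm_num
      _ ≤ 2 ^ (n - 1) := Nat.pow_le_pow_right (by norm_num) (by omega)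
  have htD : t ∈ D := mem_defect_of_central hM hB hD ht (by rw [pow_two, ht2])
  have hp : 0 < 2 ^ (n - 1) - 2 := by omega
  -- `y` does not commute with `x`
  have hncomm : y * x * y⁻¹ ≠ x := by
    intro h
    rw [hyx] at h
    have h2 : x ^ (2 ^ (n - 1) - 2) = 1 := by
      have h3 : 2 ^ (n - 1) - 1 = (2 ^ (n - 1) - 2) + 1 := by omega
      rw [h3, pow_succ] at h
      exact mul_eq_right.1 h
    have h3 := Nat.le_of_dvd hp (orderOf_dvd_of_pow_eq_one h2)
    rw [hx] at h3
    omega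
  have hcommx : ∀ w ∈ Subgroup.zpowers x, w * x * w⁻¹ = x := by
    rintro _ ⟨k, rfl⟩
    change x ^ k * x * (x ^ k)⁻¹ = x
    rw [((Commute.refl x).zpow_left k).eq, mul_inv_cancel_right]
  have hyx' : y ∉ Subgroup.zpowers x := fun h => hncomm (hcommx y h)
  have hidx : (Subgroup.zpowers x).index = 2 := by
    have h2 := Subgroup.card_mul_index (Subgroup.zpowers x)
    rw [Nat.card_zpowers, hx, hc, pow_succ] at h2
    exact Nat.eq_of_mul_eq_mul_left (by positivity) h2
  have hcases : ∀ d : D, d ∈ Subgroup.zpowers x ∨ ∃ w ∈ Subgroup.zpowers x, d = w * y := by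
    intro d
    by_cases hd : d ∈ Subgroup.zpowers x
    · exact Or.inl hd
    · right
      have h2 : d * y ∈ Subgroup.zpowers x := by
        rw [Subgroup.mul_mem_iff_of_index_two hidx]
        exact iff_of_false hd hyx'
      exact ⟨d * y, h2, by rw [mul_assoc, hy2, mul_one]⟩
  -- `t` is the element of order two in `⟨x⟩`
  have htz' : (⟨t, htD⟩ : D) = x ^ 2 ^ (n - 1) := by
    have htc : ∀ d : D, d * ⟨t, htD⟩ = ⟨t, htD⟩ * d := fun d =>
      Subtype.ext (Subgroup.mem_center_iff.1 ht d)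
    have hmem : (⟨t, htD⟩ : D) ∈ Subgroup.zpowers x := by
      rcases hcases ⟨t, htD⟩ with h | ⟨w, hw, h⟩
      · exact h
      · exfalso
        apply hncomm
        have h2 : y = w⁻¹ * ⟨t, htD⟩ := by rw [h]; group
        have h3 := hcommx w⁻¹ (inv_mem hw)
        have h4 : y * x * y⁻¹ = w⁻¹ * x * w⁻¹⁻¹ := by
          calc y * x * y⁻¹ = w⁻¹ * ((⟨t, htD⟩ : D) * x) * (⟨t, htD⟩ : D)⁻¹ * w := by rw [h2]; group
            _ = w⁻¹ * (x * ⟨t, htD⟩) * (⟨t, htD⟩ : D)⁻¹ * w := by rw [← htc x]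
            _ = _ := by group
        rw [h4, h3]
    rw [mem_zpowers_iff_mem_range_orderOf, Finset.mem_image] at hmem
    obtain ⟨k, hk, hkt⟩ := hmem
    rw [Finset.mem_range, hx] at hk
    have h2 : x ^ (k * 2) = 1 := by
      have h3 : x ^ k = ⟨t, htD⟩ := hkt
      rw [pow_mul, h3]
      exact Subtype.ext ((pow_two t).trans ht2)
    have h3 := orderOf_dvd_of_pow_eq_one h2
    rw [hx, h1, mul_comm 2] at h3
    have h5 := Nat.dvd_of_mul_dvd_mul_right (by norm_num : 0 < 2) h3
    obtain ⟨m, rfl⟩ := h5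
    have hm : m < 2 := by
      by_contra hcon
      push Not at hcon
      have : 2 ^ (n - 1) * 2 ≤ 2 ^ (n - 1) * m := Nat.mul_le_mul_left _ hcon
      omega
    have hm0 : m ≠ 0 := by
      rintro rfl
      apply ht1
      have h6 : x ^ (2 ^ (n - 1) * 0) = ⟨t, htD⟩ := hkt
      rw [mul_zero, pow_zero] at h6
      exact (congrArg Subtype.val h6).symm
    have hm1 : m = 1 := by omega
    subst hm1
    rw [← hkt, mul_one]
  have htz : t = (x : G) ^ 2 ^ (n - 1) := by
    have := congrArg Subtype.val htz'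
    simpa using this
  have hxG : (x : G) ^ 2 ^ (n - 1) ≠ 1 := by rw [← htz]; exact ht1
  -- the quotient
  let U : Subgroup G := Subgroup.zpowers t
  have hU : U ≤ Subgroup.center G := by
    change Subgroup.zpowers t ≤ _
    rwa [Subgroup.zpowers_le]
  have hUn : U.Normal := by
    refine ⟨fun n hn g => ?_⟩
    rw [Subgroup.mem_center_iff.1 (hU hn) g, mul_inv_cancel_right]
    exact hn
  have hto : orderOf t = 2 := orderOf_eq_prime (by rw [pow_two, ht2]) ht1
  have hUcard : Nat.card U = 2 := (Nat.card_zpowers t).trans hto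
  have hU2 : ∀ u ∈ U, u ^ 2 = 1 := by
    intro u hu
    have h2 := pow_card_eq_one' (G := U) (x := ⟨u, hu⟩)
    rw [hUcard] at h2
    simpa using congrArg Subtype.val h2
  have hUp : IsPGroup 2 U := IsPGroup.of_card (n := 1) (by rw [pow_one, hUcard])
  have hUD : U ≤ D := by
    change Subgroup.zpowers t ≤ D
    rwa [Subgroup.zpowers_le]
  obtain ⟨Bb, hBb, hinf, hdef⟩ := Cfsg.Agent.S4434.result 2 M hM U hUp B hB
  have hBb2 : Bb = CentralQuot.defl U B := by
    obtain ⟨θ, hθ⟩ := Blocks.Basic.isPBlock_nonempty hBb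
    refine Blocks.Basic.isPBlock_eq_of_mem hBb (CentralQuot.isPBlock_defl hM hU hUp hB) hθ ?_
    exact hinf θ hθ _ rfl
  have hrank : blockRank 2 Bb = 3 := by
    rw [hBb2, CentralQuot.blockRank_defl hM hU hUp hB, hl]
  let π := QuotientGroup.mk' U
  let Db : Subgroup (G ⧸ U) := D.map π
  have hDb : IsDefectGroup 2 M Bb Db := (hdef Db).2 ⟨D, hD, rfl⟩
  have hπ : ∀ g : G, π g = 1 ↔ g ∈ U := fun g => QuotientGroup.eq_one_iff g
  -- the generators
  have hxb : orderOf (π x) = 2 ^ (n - 1) := by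
    have h2 : n - 1 = (n - 2) + 1 := by omega
    rw [h2]
    refine orderOf_eq_prime_pow ?_ ?_
    · rw [← map_pow, hπ]
      intro h3
      apply hxG
      rw [h2, pow_succ, pow_mul]
      exact hU2 _ h3
    · rw [← map_pow, hπ, ← h2, ← htz]
      exact Subgroup.mem_zpowers t
  have hyb2 : π y * π y = 1 := by
    rw [← map_mul]
    have : ((y : G) * y) = 1 := congrArg Subtype.val hy2
    rw [this, map_one]
  have hπt : π ((x : G) ^ 2 ^ (n - 1)) = 1 := by
    rw [← htz, hπ]
    exact Subgroup.mem_zpowers t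
  have hyxb : π y * π x * (π y)⁻¹ = (π x)⁻¹ := by
    rw [← map_mul, ← map_inv, ← map_mul]
    have h2 : (y : G) * x * (y : G)⁻¹ = (x : G) ^ (2 ^ (n - 1) - 1) := by
      have := congrArg Subtype.val hyx
      simpa using this
    rw [h2, eq_inv_iff_mul_eq_one, ← map_mul, ← pow_succ,
      Nat.sub_add_cancel (Nat.one_le_two_pow), hπt]
  have hyb1 : π y ≠ 1 := by
    intro h
    rw [h] at hyxb
    have h2 : π x = (π x)⁻¹ := by simpa using hyxb
    have h3 : (π x) ^ 2 = 1 := by
      rw [pow_two]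
      nth_rewrite 2 [h2]
      exact mul_inv_cancel _
    have h5 := Nat.le_of_dvd (by norm_num) (orderOf_dvd_of_pow_eq_one h3)
    omega
  have hcardDb : Nat.card Db = 2 * 2 ^ (n - 1) := by
    have h2 : Nat.card D = Nat.card (π.subgroupMap D).ker * Nat.card Db := by
      rw [Subgroup.card_eq_card_quotient_mul_card_subgroup (π.subgroupMap D).ker, mul_comm]
      congr 1
      exact Nat.card_congr (QuotientGroup.quotientKerEquivOfSurjective _
        (π.subgroupMap_surjective D)).toEquiv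
    have h3 : (π.subgroupMap D).ker = U.subgroupOf D := by
      ext d
      rw [MonoidHom.mem_ker, Subgroup.mem_subgroupOf, ← hπ]
      constructor
      · intro h; exact congrArg Subtype.val h
      · intro h; exact Subtype.ext h
    rw [h3, Nat.card_congr (Subgroup.subgroupOfEquivOfLe hUD).toEquiv, hUcard, hc, pow_succ',
      Nat.mul_left_cancel_iff (by norm_num)] at h2
    rw [← h2, h1]
  have hxDb : π x ∈ Db := ⟨x, x.2, rfl⟩
  have hyDb : π y ∈ Db := ⟨y, y.2, rfl⟩
  have hdih : Nonempty (Db ≃* DihedralGroup (2 ^ (n - 1))) := by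
    refine nonempty_dihedral (x := ⟨π x, hxDb⟩) (y := ⟨π y, hyDb⟩) (by omega) ?_ ?_ ?_ hcardDb
    · rw [Subgroup.orderOf_mk, hxb]
    · exact Subtype.ext hyb2
    · exact Subtype.ext hyxb
  have hk := hK (G ⧸ U) Bb hBb Db hDb n hn hdih
  have hinv : ∀ d ∈ Db, d * π x * d⁻¹ = π x ∨ d * π x * d⁻¹ = (π x)⁻¹ := by
    rintro _ ⟨d, hd, rfl⟩
    have hw : ∀ w ∈ Subgroup.zpowers x, π w * π x * (π w)⁻¹ = π x := by
      intro w hw
      have h2 := congrArg (fun d : D => π (d : G)) (hcommx w hw)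
      simpa using h2
    rcases hcases ⟨d, hd⟩ with h | ⟨w, hw', h⟩
    · left
      exact hw _ h
    · right
      have h2 : d = (w : G) * y := congrArg Subtype.val h
      rw [h2, map_mul]
      calc π w * π y * π x * (π w * π y)⁻¹ = π w * (π y * π x * (π y)⁻¹) * (π w)⁻¹ := by group
        _ = π w * (π x)⁻¹ * (π w)⁻¹ := by rw [hyxb]
        _ = (π w * π x * (π w)⁻¹)⁻¹ := by group
        _ = (π x)⁻¹ := by rw [hw w hw']
  obtain ⟨f, hf⟩ := exists_pair_of_le_isDefectGroup hM hBb hDb le_rfl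
  have hmax : IsMaximalBrauerPair 2 M Bb (⟨Db, f⟩ : BrauerPairIdx (G ⧸ U)).1
    (⟨Db, f⟩ : BrauerPairIdx (G ⧸ U)).2 := isMaximalBrauerPair_of_isDefectGroup hM hf hDb
  obtain ⟨g', hg', -⟩ := fused hM hmax hxDb hinv (h := 2 ^ (n - 2)) (hxb.trans h1') hk hrank
    hyDb hyb1 hyb2
  obtain ⟨g, rfl⟩ := QuotientGroup.mk'_surjective U g'
  change π g * π y * (π g)⁻¹ = (π x) ^ 2 ^ (n - 2) at hg'
  rw [← map_mul, ← map_inv, ← map_mul, ← map_pow] at hg'
  have h6 : (g * y * g⁻¹)⁻¹ * (x : G) ^ 2 ^ (n - 2) ∈ U := QuotientGroup.eq.1 hg'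
  have h7 := hU2 _ h6
  have h8 := Subgroup.mem_center_iff.1 (hU h6) (g * y * g⁻¹)
  set u := (g * y * g⁻¹)⁻¹ * (x : G) ^ 2 ^ (n - 2) with hu
  have h9 : (x : G) ^ 2 ^ (n - 2) = (g * y * g⁻¹) * u := by rw [hu]; group
  apply hxG
  have h10 : (x : G) ^ 2 ^ (n - 1) = ((x : G) ^ 2 ^ (n - 2)) ^ 2 := by
    rw [h1', ← pow_mul, mul_comm 2]
  have h11 : Commute (g * y * g⁻¹) u := h8
  have h12 : ((y : G)) ^ 2 = 1 := by
    rw [pow_two]
    exact congrArg Subtype.val hy2
  rw [h10, h9, h11.mul_pow, h7, mul_one, conj_pow, h12, mul_one, mul_inv_cancel]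

end

end Cfsg.Agent.H642.TameCenter
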