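import Mathlib
import Cfsg.Agent.H613.SubFus
import Cfsg.Agent.H644.CentralQuot
import Cfsg.Agent.H644.Maximal
import Cfsg.Agent.Blocks.Fong
import Cfsg.Agent.S4434
import Cfsg.Agent.S4528
import Cfsg.Agent.S4637
import Cfsg.Agent.S4675

/-!
# Characters of a block with a central involution in the kernel

* `blkMap_of_le`: pairs `c ≤ d` with the same centralizer have the same block;
* `bel_mul`: for `z` central the pairs at `u` and `u * z` have the same block;
* `two_mul_card_ker`: twice the number of characters of `B` with the central involution `z` in the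
  kernel is `k(B)` plus the number of fusion classes of `u` with `u` fused to `u * z`;
* `card_ker_dihedral`, `card_ker_four`: this number when `a.1 / ⟨z⟩` is dihedral or a four-group.
-/

set_option autoImplicit false
set_option linter.unusedSectionVars false

open Cfsg
open scoped ComplexConjugate

namespace Cfsg.Agent.H642.KerCount

open Cfsg.Agent.Blocks.Blau Cfsg.Agent.Blocks.Local Cfsg.Agent.Characters
open Cfsg.Agent.H613.RegGram Cfsg.Agent.H613.Contrib Cfsg.Agent.H613.SubSys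
open Cfsg.Agent.H613.SubFus
open Cfsg.Agent.H639 Cfsg.Agent.H649

universe u

variable {G : Type u} [Group G] [Finite G] {p : ℕ} [Fact p.Prime] {M : Ideal AlgInt}

theorem not_memLocalIdeal_neg_one (hM : IsPModular p M) : ¬ MemLocalIdeal M ((0 : ℂ) - 1) := by
  have := isPrime_of_isPModular hM
  intro h
  apply not_memLocalIdeal_one (M := M)
  have h1 := memLocalIdeal_neg h
  simpa using h1

omit [Finite G] [Fact p.Prime] in
theorem blkMap_congr_rfl {H : Subgroup G} (h : H = H) (f : Set (IrrCharacter H)) :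
    blkMap (MulEquiv.subgroupCongr h) f = f := blkMap_refl f

/-- The block of the upper pair in a normal step with equal centralizers. -/
theorem blk_step (hM : IsPModular p M) {H K : Subgroup G} (h : H = K)
    {f : Set (IrrCharacter H)} {e : Set (IrrCharacter K)} (hf : IsPBlock M f) (he : IsPBlock M e)
    (hω : ∀ ξ ∈ e, MemLocalIdeal M
      ((∑ᶠ x : K, subgroupBlockCoeff H f x * (ξ : K → ℂ) x / (ξ : K → ℂ) 1) - 1)) :
    blkMap (MulEquiv.subgroupCongr h) f = e := by
  classical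
  subst h
  rw [blkMap_congr_rfl]
  have := isPrime_of_isPModular hM
  have := Fintype.ofFinite H
  obtain ⟨ξ, hξ⟩ := Blocks.Basic.isPBlock_nonempty he
  refine Blocks.Basic.isPBlock_eq_of_mem hf he ?_ hξ
  by_contra hn
  apply not_memLocalIdeal_neg_one hM
  have h1 := hω ξ hξ
  rw [finsum_eq_sum_of_fintype] at h1
  have h2 : ∑ x : H, subgroupBlockCoeff H f x * (ξ : H → ℂ) x / (ξ : H → ℂ) 1 = 0 := by
    have h3 := Blocks.Fong.sum_blockCoeff_mul f ξ
    rw [if_neg hn] at h3
    rw [← Finset.sum_div, div_eq_zero_iff]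
    left
    rw [← h3]
    exact Finset.sum_congr rfl fun x _ => by rw [subgroupBlockCoeff_coe]
  rwa [h2] at h1

omit [Finite G] [Fact p.Prime] in
theorem centralizer_anti {Q R : Subgroup G} (h : Q ≤ R) :
    Subgroup.centralizer (R : Set G) ≤ Subgroup.centralizer (Q : Set G) :=
  Subgroup.centralizer_le h

/-- Comparable pairs with the same centralizer have the same block. -/
theorem blkMap_of_le (hM : IsPModular p M) {c d : BrauerPairIdx G} (hcd : LEIdx p M c d) :
    ∀ h : Subgroup.centralizer (c.1 : Set G) = Subgroup.centralizer (d.1 : Set G),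
      blkMap (MulEquiv.subgroupCongr h) c.2 = d.2 := by
  induction hcd with
  | refl => exact fun h => blkMap_congr_rfl h c.2
  | tail hcd hstep ih =>
    rename_i d d'
    intro h
    have hle : c.1 ≤ d.1 := LEIdx.le hcd
    have hle' : d.1 ≤ d'.1 := hstep.2.2.1
    have h1 : Subgroup.centralizer (c.1 : Set G) = Subgroup.centralizer (d.1 : Set G) :=
      le_antisymm (h ▸ centralizer_anti hle') (centralizer_anti hle)
    have h2 : Subgroup.centralizer (d.1 : Set G) = Subgroup.centralizer (d'.1 : Set G) :=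
      h1.symm.trans h
    have h3 := blk_step hM h2 hstep.1.2 hstep.2.1.2 hstep.2.2.2.2.2
    rw [← h3, ← ih h1, blkMap_blkMap]
    rfl

theorem mem_centralizer_zpowers {u g : G} :
    g ∈ Subgroup.centralizer ((Subgroup.zpowers u : Subgroup G) : Set G) ↔ g * u = u * g := by
  rw [Cfsg.Agent.H613.SubSys.centralizer_zpowers, Subgroup.mem_centralizer_singleton_iff]

theorem centralizer_mul_eq {z : G} (hcen : ∀ g : G, z * g = g * z) (u : G) :
    Subgroup.centralizer ((Subgroup.zpowers u : Subgroup G) : Set G) =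
      Subgroup.centralizer ((Subgroup.zpowers (u * z) : Subgroup G) : Set G) := by
  ext g
  rw [mem_centralizer_zpowers, mem_centralizer_zpowers, ← mul_assoc, mul_assoc u z g, hcen g,
    ← mul_assoc, mul_left_inj]

theorem centralizer_sup_eq {z : G} (hcen : ∀ g : G, z * g = g * z) (u : G) :
    Subgroup.centralizer ((Subgroup.zpowers u : Subgroup G) : Set G) =
      Subgroup.centralizer ((Subgroup.zpowers u ⊔ Subgroup.zpowers z : Subgroup G) : Set G) := by
  refine le_antisymm (fun g hg => ?_) (centralizer_anti le_sup_left)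
  rw [mem_centralizer_zpowers] at hg
  have h1 : (Subgroup.zpowers u ⊔ Subgroup.zpowers z : Subgroup G) ≤
      Subgroup.centralizer ({g} : Set G) := by
    rw [sup_le_iff, Subgroup.zpowers_le, Subgroup.zpowers_le,
      Subgroup.mem_centralizer_singleton_iff, Subgroup.mem_centralizer_singleton_iff]
    exact ⟨hg.symm, hcen g⟩
  rw [Subgroup.mem_centralizer_iff]
  intro h hh
  exact Subgroup.mem_centralizer_singleton_iff.1 (h1 hh)

/-- For `z` central, the pairs at `u` and `u * z` have the same block. -/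
theorem bel_mul (hM : IsPModular p M) {a : BrauerPairIdx G} (ha : IsBrauerPair p M a.1 a.2)
    {z : G} (hza : z ∈ a.1) (hcen : ∀ g : G, z * g = g * z) {u : G} (hu : u ∈ a.1)
    (h : Subgroup.centralizer ((bel p M a u).1 : Set G) =
      Subgroup.centralizer ((bel p M a (u * z)).1 : Set G)) :
    blkMap (MulEquiv.subgroupCongr h) (bel p M a u).2 = (bel p M a (u * z)).2 := by
  have := Fintype.ofFinite G
  let Q : Subgroup G := Subgroup.zpowers u ⊔ Subgroup.zpowers z
  have hQ : Q ≤ a.1 := by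
    refine sup_le ?_ ?_ <;> rwa [Subgroup.zpowers_le]
  obtain ⟨f, ⟨hf, hfa⟩, -⟩ := S4655.result p M hM a.1 Q a.2 ha hQ
  have hd : IsBrauerPair p M Q f := ⟨ha.1.to_le hQ, hf⟩
  have key : ∀ v : G, v ∈ Q → LEIdx p M (bel p M a v) ⟨Q, f⟩ := by
    intro v hv
    obtain ⟨g, ⟨hg, hgQ⟩, -⟩ := S4655.result p M hM Q (Subgroup.zpowers v) f hd
      (by rwa [Subgroup.zpowers_le])
    have h1 : LEIdx p M (⟨Subgroup.zpowers v, g⟩ : BrauerPairIdx G) ⟨Q, f⟩ := hgQ
    have h2 : LEIdx p M (⟨Subgroup.zpowers v, g⟩ : BrauerPairIdx G) a :=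
      Relation.ReflTransGen.trans h1 hfa
    rwa [← eq_bel hM ha rfl h2]
  have huQ : u ∈ Q := (le_sup_left : Subgroup.zpowers u ≤ Q) (Subgroup.mem_zpowers u)
  have hzQ : z ∈ Q := (le_sup_right : Subgroup.zpowers z ≤ Q) (Subgroup.mem_zpowers z)
  have hc1 : Subgroup.centralizer ((bel p M a u).1 : Set G) =
      Subgroup.centralizer ((⟨Q, f⟩ : BrauerPairIdx G).1 : Set G) := centralizer_sup_eq hcen u
  have hc2 : Subgroup.centralizer ((bel p M a (u * z)).1 : Set G) =
      Subgroup.centralizer ((⟨Q, f⟩ : BrauerPairIdx G).1 : Set G) := h.symm.trans hc1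
  have h1 := blkMap_of_le hM (key u huQ) hc1
  have h2 := blkMap_of_le hM (key (u * z) (mul_mem huQ hzQ)) hc2
  apply blkMap_injective (MulEquiv.subgroupCongr hc2)
  rw [blkMap_blkMap]
  exact h1.trans h2.symm

/-- The product at `u * z`. -/
theorem W_mul (p : ℕ) {z u : G} {b c : BrauerPairIdx G}
    (h : Subgroup.centralizer (b.1 : Set G) = Subgroup.centralizer (c.1 : Set G)) {χ : G → ℂ}
    {ω : ℂ} (hχ : ∀ g : G, χ (g * z) = ω * χ g) (hcen : ∀ g : G, z * g = g * z)
    (η : IrrCharacter (Subgroup.centralizer (b.1 : Set G))) :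
    W p (u * z) c χ (irrMap (MulEquiv.subgroupCongr h) η) = ω * W p u b χ η := by
  classical
  have := Fintype.ofFinite (Subgroup.centralizer (b.1 : Set G))
  have := Fintype.ofFinite (Subgroup.centralizer (c.1 : Set G))
  let e : Subgroup.centralizer (b.1 : Set G) ≃* Subgroup.centralizer (c.1 : Set G) :=
    MulEquiv.subgroupCongr h
  rw [W_eq_sum, W_eq_sum, ← Nat.card_congr e.toEquiv, mul_left_comm]
  congr 1
  rw [Finset.sum_filter, Finset.sum_filter, Finset.mul_sum, ← Equiv.sum_comp e.toEquiv]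
  refine Finset.sum_congr rfl fun y _ => ?_
  have h1 : orderOf (e.toEquiv y) = orderOf y := MulEquiv.orderOf_eq e y
  rw [h1]
  have h2 : ((e.toEquiv y : Subgroup.centralizer (c.1 : Set G)) : G) = (y : G) := rfl
  have h4 : (irrMap (MulEquiv.subgroupCongr h) η : Subgroup.centralizer (c.1 : Set G) → ℂ)
      (e.toEquiv y) = (η : Subgroup.centralizer (b.1 : Set G) → ℂ) y :=
    irrMap_apply' (MulEquiv.subgroupCongr h) η y
  have h3 : u * z * (y : G) = u * (y : G) * z := by rw [mul_assoc, hcen, ← mul_assoc]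
  rw [h2, h3, hχ]
  have h5 := congrArg (starRingEnd ℂ) h4
  change conj ((irrMap (MulEquiv.subgroupCongr h) η : Subgroup.centralizer (c.1 : Set G) → ℂ)
      (e.toEquiv y)) = _ at h5
  by_cases hp' : p ∣ orderOf y
  · rw [if_neg (not_not.2 hp'), if_neg (not_not.2 hp'), mul_zero]
  · rw [if_pos hp', if_pos hp', h5]
    ring

/-- The scalar by which a central element acts. -/
noncomputable def om (z : G) (χ : IrrCharacter G) : ℂ := (χ : G → ℂ) z / (χ : G → ℂ) 1

theorem apply_mul {z : G} (hcen : ∀ g : G, z * g = g * z) (χ : IrrCharacter G) (g : G) :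
    (χ : G → ℂ) (g * z) = om z χ * (χ : G → ℂ) g := by
  have := Fintype.ofFinite G
  obtain ⟨c, hc⟩ := Cfsg.Agent.H644.CentralQuot.exists_scalar_center χ (z := z)
    (Subgroup.mem_center_iff.2 fun g => (hcen g).symm)
  have h1 := hc 1
  rw [one_mul] at h1
  have h2 : om z χ = c := by
    rw [om, h1, mul_div_cancel_right₀ _ (apply_one_ne_zero χ)]
  rw [h2, hc g]

theorem om_mul_self {z : G} (hz2 : z * z = 1) (hcen : ∀ g : G, z * g = g * z)
    (χ : IrrCharacter G) : om z χ * om z χ = 1 := by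
  have h1 := apply_mul hcen χ (1 * z)
  rw [apply_mul hcen χ 1, one_mul, hz2, ← mul_assoc] at h1
  have h2 := apply_one_ne_zero χ
  exact (mul_right_cancel₀ h2 (h1.symm.trans (one_mul _).symm))

theorem om_eq {z : G} (hz2 : z * z = 1) (hcen : ∀ g : G, z * g = g * z)
    (χ : IrrCharacter G) [Decidable ((χ : G → ℂ) z = (χ : G → ℂ) 1)] :
    om z χ = if (χ : G → ℂ) z = (χ : G → ℂ) 1 then 1 else -1 := by
  have h2 := apply_one_ne_zero χ
  split_ifs with h
  · rw [om, h, div_self h2]
  · rcases mul_self_eq_one_iff.1 (om_mul_self hz2 hcen χ) with h1 | h1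
    · rw [om, div_eq_one_iff_eq h2] at h1
      exact absurd h1 h
    · exact h1

theorem pRegularPart_apply (p : ℕ) (χ : G → ℂ) {g : G} (hg : ¬ p ∣ orderOf g) :
    pRegularPart p χ g = χ g := by
  unfold pRegularPart
  exact if_pos hg

/-- The sum of the scalars against the Gram matrix of the regular elements. -/
theorem sum_om_mul_rg [Fintype G] (hM : IsPModular p M) {B : Set (IrrCharacter G)} [Fintype B]
    (hB : IsPBlock M B) {z : G} (hz1 : z ≠ 1) (hzp : ∃ k : ℕ, orderOf z = p ^ k)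
    (hcen : ∀ g : G, z * g = g * z) :
    ∑ χ : B, om z (χ : IrrCharacter G) * rg p ((χ : IrrCharacter G) : G → ℂ)
      ((χ : IrrCharacter G) : G → ℂ) = 0 := by
  classical
  have h1 : ∀ χ : B, om z (χ : IrrCharacter G) * rg p ((χ : IrrCharacter G) : G → ℂ)
      ((χ : IrrCharacter G) : G → ℂ) = (Nat.card G : ℂ)⁻¹ * ∑ s : G with ¬ p ∣ orderOf s,
        ((χ : IrrCharacter G) : G → ℂ) (s * z) * ((χ : IrrCharacter G) : G → ℂ) s⁻¹ := by
    intro χ
    rw [rg_def, pair_eq_sum_filter, mul_left_comm, Finset.mul_sum]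
    congr 1
    refine Finset.sum_congr rfl fun s _ => ?_
    rw [apply_mul hcen, Cfsg.Agent.Blocks.Orthogonality.irr_apply_inv
      (χ : IrrCharacter G).2]
    ring
  rw [Finset.sum_congr rfl fun χ _ => h1 χ, ← Finset.mul_sum, Finset.sum_comm, mul_eq_zero]
  right
  refine Finset.sum_eq_zero fun s hs => ?_
  have hs' : ¬ p ∣ orderOf s := (Finset.mem_filter.1 hs).2
  have h2 : IsPPart p (s * z) z := by
    refine ⟨s, ?_, hcen s, hzp, hs'⟩
    exact hcen s
  have h3 : IsPPart p s 1 := ⟨s, one_mul s, Commute.one_left s, ⟨0, by simp⟩, hs'⟩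
  have h0 : ¬ IsConj z 1 := fun h => hz1 (isConj_one_right.1 h.symm)
  have h4 := (S0925.result p M hM).2 _ _ _ _ h2 h3 h0 B hB
  have hfin := Core.finite_irr (G := G)
  rw [finsum_mem_eq_toFinset_sum] at h4
  rw [← Finset.sum_subtype B.toFinset (p := fun x => x ∈ B) (fun x => Set.mem_toFinset)
    (fun ψ : IrrCharacter G => (ψ : G → ℂ) (s * z) * (ψ : G → ℂ) s⁻¹)]
  exact h4

/-- Scalars against the contribution of a subsection not conjugate to its product with `z`. -/
theorem sum_om_mul_Cn (hM : IsPModular p M) {B : Set (IrrCharacter G)} [Fintype B]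
    {a : BrauerPairIdx G} (hmax : IsMaximalBrauerPair p M B a.1 a.2) {z : G} (hza : z ∈ a.1)
    (hcen : ∀ g : G, z * g = g * z) {u : G} (hu : u ∈ a.1) (hne : ¬ Fus p M a u (u * z)) :
    ∑ χ : B, om z (χ : IrrCharacter G) * Cn p u (bel p M a u) ((χ : IrrCharacter G) : G → ℂ)
      ((χ : IrrCharacter G) : G → ℂ) = 0 := by
  classical
  have := Core.finite_irr (G := Subgroup.centralizer ((bel p M a u).1 : Set G))
  have := Fintype.ofFinite (bel p M a u).2
  have hc : Subgroup.centralizer ((bel p M a u).1 : Set G) =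
    Subgroup.centralizer ((bel p M a (u * z)).1 : Set G) := centralizer_mul_eq hcen u
  have h1 : ∀ χ : B, om z (χ : IrrCharacter G) * Cn p u (bel p M a u)
      ((χ : IrrCharacter G) : G → ℂ) ((χ : IrrCharacter G) : G → ℂ) =
      ∑ η : (bel p M a u).2, W p (u * z) (bel p M a (u * z)) ((χ : IrrCharacter G) : G → ℂ)
        (irrMap (MulEquiv.subgroupCongr hc) (η : IrrCharacter _)) *
        conj (W p u (bel p M a u) ((χ : IrrCharacter G) : G → ℂ) (η : IrrCharacter _)) := by
    intro χ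
    rw [Cn_eq_sum, Finset.mul_sum]
    refine Finset.sum_congr rfl fun η _ => ?_
    rw [W_mul p hc (fun g => apply_mul hcen _ g) hcen, mul_assoc]
  rw [Finset.sum_congr rfl fun χ _ => h1 χ, Finset.sum_comm]
  refine Finset.sum_eq_zero fun η _ => ?_
  refine orth_of_not_conj hM (isSubsec_bel hM hmax (mul_mem hu hza)) (isSubsec_bel hM hmax hu)
    ?_ ?_ η.2
  · rintro ⟨x, h2, h3⟩
    exact hne (Fus.symm ⟨x, h2, h3⟩)
  · rw [← bel_mul hM hmax.1.1 hza hcen hu hc]
    exact irrMap_mem_blkMap.2 η.2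

/-- Characters of the same degree in a block of rank one give the same product. -/
theorem W_eq_of_degree {u : G} {b : BrauerPairIdx G} (hl : blockRank p b.2 = 1)
    {η η' : IrrCharacter (Subgroup.centralizer (b.1 : Set G))} (hη : η ∈ b.2) (hη' : η' ∈ b.2)
    (h1 : (η : Subgroup.centralizer (b.1 : Set G) → ℂ) 1 =
      (η' : Subgroup.centralizer (b.1 : Set G) → ℂ) 1) (χ : G → ℂ) :
    W p u b χ η = W p u b χ η' := by
  classical
  have := Fintype.ofFinite (Subgroup.centralizer (b.1 : Set G))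
  have h2 := S4675.proportional (Fact.out : p.Prime) hl hη hη'
  rw [h1] at h2
  have h3 := smul_right_injective _ (apply_one_ne_zero η') h2
  rw [W_eq_sum, W_eq_sum]
  congr 1
  refine Finset.sum_congr rfl fun y hy => ?_
  have hy' := (Finset.mem_filter.1 hy).2
  have h4 := congrFun h3 y
  rw [pRegularPart_apply p _ hy', pRegularPart_apply p _ hy'] at h4
  rw [h4]

omit [Fact p.Prime] in
theorem exists_of_conj {x u v : G} {b c : BrauerPairIdx G} (hx : x * u * x⁻¹ = v)
    (hc : conjIdx x b = c) {χ : G → ℂ} (hχ : IsClassFunction G χ)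
    {η : IrrCharacter (Subgroup.centralizer (c.1 : Set G))} (hη : η ∈ c.2) :
    ∃ η' ∈ b.2, W p v c χ η = W p u b χ η' ∧
      (η' : Subgroup.centralizer (b.1 : Set G) → ℂ) 1 =
        (η : Subgroup.centralizer (c.1 : Set G) → ℂ) 1 := by
  subst hx
  subst hc
  obtain ⟨η', rfl⟩ := exists_cjI x b η
  refine ⟨η', (cjI_mem x b η').1 hη, W_conj p x u b hχ η', ?_⟩
  exact (irrMap_one (cenIso (MulAut.conj x) b.1) η').symm

/-- Scalars against the contribution of a subsection of rank one conjugate to its product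
with `z`. -/
theorem om_mul_Cn (hM : IsPModular p M) {B : Set (IrrCharacter G)}
    {a : BrauerPairIdx G} (hmax : IsMaximalBrauerPair p M B a.1 a.2) {z : G} (hza : z ∈ a.1)
    (hcen : ∀ g : G, z * g = g * z) {u : G} (hu : u ∈ a.1) (hF : Fus p M a u (u * z))
    (hl : blockRank p (bel p M a u).2 = 1) (χ : IrrCharacter G) :
    om z χ * Cn p u (bel p M a u) (χ : G → ℂ) (χ : G → ℂ) =
      Cn p u (bel p M a u) (χ : G → ℂ) (χ : G → ℂ) := by
  classical
  have := Core.finite_irr (G := Subgroup.centralizer ((bel p M a u).1 : Set G))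
  have := Fintype.ofFinite (bel p M a u).2
  have hc : Subgroup.centralizer ((bel p M a u).1 : Set G) =
    Subgroup.centralizer ((bel p M a (u * z)).1 : Set G) := centralizer_mul_eq hcen u
  rw [Cn_eq_sum, Finset.mul_sum]
  refine Finset.sum_congr rfl fun η _ => ?_
  rw [← mul_assoc]
  congr 1
  obtain ⟨x, hx1, hx2⟩ := hF
  have hη' : irrMap (MulEquiv.subgroupCongr hc) (η : IrrCharacter _) ∈
      (bel p M a (u * z)).2 := by
    rw [← bel_mul hM hmax.1.1 hza hcen hu hc]
    exact irrMap_mem_blkMap.2 η.2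
  obtain ⟨η', h1, h2, h3⟩ := exists_of_conj hx1 hx2 (isClassFunction_coe χ) hη'
  rw [← W_mul p hc (fun g => apply_mul hcen χ g) hcen, h2]
  refine W_eq_of_degree hl h1 η.2 ?_ _
  rw [h3]
  exact irrMap_one (MulEquiv.subgroupCongr hc) (η : IrrCharacter _)

/-- Twice the number of characters with the central involution `z` in the kernel. -/
theorem two_mul_card_ker (hM : IsPModular 2 M) {B : Set (IrrCharacter G)}
    {a : BrauerPairIdx G} (hmax : IsMaximalBrauerPair 2 M B a.1 a.2) {z : G} (hza : z ∈ a.1)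
    (hz1 : z ≠ 1) (hz2 : z * z = 1) (hcen : ∀ g : G, z * g = g * z) {ι : Type*} [Fintype ι]
    (r : ι → G) (hr : ∀ i, r i ∈ a.1) (h1 : ∀ i, r i ≠ 1)
    (hinj : ∀ i j, Fus 2 M a (r i) (r j) → i = j)
    (hsurj : ∀ v ∈ a.1, v ≠ 1 → ∃ i, Fus 2 M a (r i) v)
    (hl : ∀ i, Fus 2 M a (r i) (r i * z) → blockRank 2 (bel 2 M a (r i)).2 = 1) :
    2 * Nat.card {χ : IrrCharacter G // χ ∈ B ∧ (χ : G → ℂ) z = (χ : G → ℂ) 1} =
      Nat.card B + Nat.card {i : ι // Fus 2 M a (r i) (r i * z)} := by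
  classical
  have : Fact (Nat.Prime 2) := ⟨Nat.prime_two⟩
  have := isPrime_of_isPModular hM
  have := Fintype.ofFinite G
  have := Core.finite_irr (G := G)
  have := Fintype.ofFinite B
  have hB : IsPBlock M B := hmax.1.2.1
  have hsys := isSys_of_reps hM hmax r hr h1 hinj hsurj
  have hzo : ∃ k : ℕ, orderOf z = 2 ^ k :=
    ⟨1, by rw [pow_one]; exact orderOf_eq_prime (by rw [pow_two, hz2]) hz1⟩
  -- the sum of the scalars
  have e1 : ∀ χ : B, om z (χ : IrrCharacter G) =
      om z (χ : IrrCharacter G) * rg 2 ((χ : IrrCharacter G) : G → ℂ)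
        ((χ : IrrCharacter G) : G → ℂ) +
      ∑ i, om z (χ : IrrCharacter G) * Cn 2 (r i) (bel 2 M a (r i))
        ((χ : IrrCharacter G) : G → ℂ) ((χ : IrrCharacter G) : G → ℂ) := by
    intro χ
    rw [← Finset.mul_sum, ← mul_add, hsys.rg_add_sum hM hB χ.2 χ.2, if_pos rfl, mul_one]
  have e2 : ∀ i, ∑ χ : B, om z (χ : IrrCharacter G) * Cn 2 (r i) (bel 2 M a (r i))
        ((χ : IrrCharacter G) : G → ℂ) ((χ : IrrCharacter G) : G → ℂ) =
      if Fus 2 M a (r i) (r i * z) then 1 else 0 := by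
    intro i
    split_ifs with hF
    · rw [Finset.sum_congr rfl fun (χ : B) _ => om_mul_Cn hM hmax hza hcen (hr i) hF (hl i hF)
        (χ : IrrCharacter G), (hsys.sub i).sum_Cn_self hM, hl i hF, Nat.cast_one]
    · exact sum_om_mul_Cn hM hmax hza hcen (hr i) hF
  have e3 : ∑ χ : B, om z (χ : IrrCharacter G) =
      (Nat.card {i : ι // Fus 2 M a (r i) (r i * z)} : ℂ) := by
    rw [Finset.sum_congr rfl fun χ _ => e1 χ, Finset.sum_add_distrib,
      sum_om_mul_rg hM hB hz1 hzo hcen, zero_add, Finset.sum_comm,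
      Finset.sum_congr rfl fun i _ => e2 i, Finset.sum_boole, Nat.card_eq_fintype_card,
      Fintype.card_subtype]
  have e4 : ∑ χ : B, (1 + om z (χ : IrrCharacter G)) =
      2 * (Nat.card {χ : IrrCharacter G // χ ∈ B ∧ (χ : G → ℂ) z = (χ : G → ℂ) 1} : ℂ) := by
    have h2 : ∀ χ : B, (1 + om z (χ : IrrCharacter G)) =
        2 * (if ((χ : IrrCharacter G) : G → ℂ) z = ((χ : IrrCharacter G) : G → ℂ) 1
          then (1 : ℂ) else 0) := by
      intro χ
      rw [om_eq hz2 hcen]
      split_ifs <;> ring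
    rw [Finset.sum_congr rfl fun χ _ => h2 χ, ← Finset.mul_sum, Finset.sum_boole,
      ← Fintype.card_subtype, ← Nat.card_eq_fintype_card]
    congr 2
    refine Nat.card_congr ⟨fun χ => ⟨χ.1.1, χ.1.2, χ.2⟩, fun χ => ⟨⟨χ.1, χ.2.1⟩, χ.2.2⟩,
      fun _ => rfl, fun _ => rfl⟩
  rw [Finset.sum_add_distrib, e3, Finset.sum_const, Finset.card_univ,
    ← Nat.card_eq_fintype_card, nsmul_eq_mul, mul_one] at e4
  exact_mod_cast e4.symm

section quotient

open Cfsg.Agent.H644 Cfsg.Agent.H644.CentralQuot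

/-- The characters with `z` in the kernel are the inflations from the quotient. -/
theorem card_ker_eq (B : Set (IrrCharacter G)) {z : G} (_hz1 : z ≠ 1) (hz2 : z * z = 1)
    {Z : Subgroup G} [Z.Normal] (hZ : Z = Subgroup.zpowers z) :
    Nat.card {χ : IrrCharacter G // χ ∈ B ∧ (χ : G → ℂ) z = (χ : G → ℂ) 1} =
      Nat.card (defl Z B) := by
  classical
  have hzZ : z ∈ Z := by rw [hZ]; exact Subgroup.mem_zpowers z
  have hmem : ∀ g ∈ Z, g = 1 ∨ g = z := by
    intro g hg
    rw [hZ] at hg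
    obtain ⟨k, rfl⟩ := hg
    rcases Int.even_or_odd' k with ⟨m, rfl | rfl⟩
    · left
      change z ^ (2 * m) = 1
      rw [zpow_mul, zpow_two, hz2, one_zpow]
    · right
      change z ^ (2 * m + 1) = z
      rw [zpow_add, zpow_mul, zpow_two, hz2, one_zpow, one_mul, zpow_one]
  symm
  refine Nat.card_congr (Equiv.ofBijective (fun θ : defl Z B =>
    (⟨infl Z (θ : IrrCharacter (G ⧸ Z)), θ.2, ?_⟩ :
      {χ : IrrCharacter G // χ ∈ B ∧ (χ : G → ℂ) z = (χ : G → ℂ) 1})) ⟨?_, ?_⟩)
  · rw [infl_apply, infl_one, (QuotientGroup.eq_one_iff z).2 hzZ]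
  · intro θ θ' h
    exact Subtype.ext (infl_injective Z (congrArg (fun x => x.1) h))
  · rintro ⟨χ, hχ, hz⟩
    have := Fintype.ofFinite Z
    have h1 : ∑ n : Z, (χ : G → ℂ) n ≠ 0 := by
      have h2 : ∀ n : Z, (χ : G → ℂ) n = (χ : G → ℂ) 1 := by
        intro n
        rcases hmem n n.2 with h | h
        · rw [h]
        · rw [h, hz]
      rw [Finset.sum_congr rfl fun n _ => h2 n, Finset.sum_const, Finset.card_univ,
        nsmul_eq_mul]
      exact mul_ne_zero (by exact_mod_cast Fintype.card_ne_zero) (apply_one_ne_zero χ)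
    obtain ⟨θ, hθ⟩ := Blocks.Deflate.exists_deflation Z (χ : G → ℂ) χ.2 h1
    have h3 : infl Z θ = χ := Subtype.ext hθ.symm
    exact ⟨⟨θ, by rw [mem_defl, h3]; exact hχ⟩, Subtype.ext h3⟩

theorem defl_data (hM : IsPModular 2 M) {B : Set (IrrCharacter G)} (hB : IsPBlock M B)
    {D : Subgroup G} (hD : IsDefectGroup 2 M B D) {z : G} (hz1 : z ≠ 1) (hz2 : z * z = 1)
    (hcen : ∀ g : G, z * g = g * z) {Z : Subgroup G} [Z.Normal] (hZ : Z = Subgroup.zpowers z) :
    IsPBlock M (defl Z B) ∧ IsDefectGroup 2 M (defl Z B) (D.map (QuotientGroup.mk' Z)) := by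
  have hp2 : Fact (Nat.Prime 2) := ⟨Nat.prime_two⟩
  have := isPrime_of_isPModular hM
  have := Fintype.ofFinite G
  have hZc : Z ≤ Subgroup.center G := by
    rw [hZ, Subgroup.zpowers_le, Subgroup.mem_center_iff]
    exact fun g => (hcen g).symm
  have hzo : orderOf z = 2 := orderOf_eq_prime (by rw [pow_two, hz2]) hz1
  have hZp : IsPGroup 2 Z := by
    refine IsPGroup.of_card (n := 1) ?_
    rw [pow_one, hZ, Nat.card_zpowers, hzo]
  obtain ⟨Bb, hBb, hinf, hdef⟩ := Cfsg.Agent.S4434.result 2 M hM Z hZp B hB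
  have hdefl := isPBlock_defl hM hZc hZp hB
  have hBb2 : Bb = defl Z B := by
    obtain ⟨θ, hθ⟩ := Blocks.Basic.isPBlock_nonempty hBb
    refine Blocks.Basic.isPBlock_eq_of_mem hBb hdefl hθ ?_
    exact hinf θ hθ _ rfl
  rw [← hBb2]
  exact ⟨hBb, (hdef _).2 ⟨D, hD, rfl⟩⟩

theorem card_ker_dihedral (hM : IsPModular 2 M) {B : Set (IrrCharacter G)}
    {a : BrauerPairIdx G} (hmax : IsMaximalBrauerPair 2 M B a.1 a.2) {z : G}
    (hz1 : z ≠ 1) (hz2 : z * z = 1) (hcen : ∀ g : G, z * g = g * z)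
    {Z : Subgroup G} [Z.Normal] (hZ : Z = Subgroup.zpowers z) {n : ℕ} (hn : 4 ≤ n)
    (e : Nonempty (↥(a.1.map (QuotientGroup.mk' Z)) ≃* DihedralGroup (2 ^ (n - 2)))) :
    Nat.card {χ : IrrCharacter G // χ ∈ B ∧ (χ : G → ℂ) z = (χ : G → ℂ) 1} =
      2 ^ (n - 3) + 3 := by
  have hp2 : Fact (Nat.Prime 2) := ⟨Nat.prime_two⟩
  have := isPrime_of_isPModular hM
  have hB : IsPBlock M B := hmax.1.2.1
  have hD := isDefectGroup_of_isMaximalBrauerPair hM hmax
  obtain ⟨h1, h2⟩ := defl_data hM hB hD hz1 hz2 hcen hZ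
  rw [card_ker_eq B hz1 hz2 hZ]
  have h3 := (Cfsg.Agent.S4528.result M hM (defl Z B) h1 _ h2 (n - 1) (by omega)
    (by rwa [Nat.sub_sub])).1
  rwa [Nat.sub_sub] at h3

theorem card_ker_four (hM : IsPModular 2 M) {B : Set (IrrCharacter G)}
    {a : BrauerPairIdx G} (hmax : IsMaximalBrauerPair 2 M B a.1 a.2) {z : G}
    (hz1 : z ≠ 1) (hz2 : z * z = 1) (hcen : ∀ g : G, z * g = g * z)
    {Z : Subgroup G} [Z.Normal] (hZ : Z = Subgroup.zpowers z)
    (hV : IsKleinFour ↥(a.1.map (QuotientGroup.mk' Z))) :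
    Nat.card {χ : IrrCharacter G // χ ∈ B ∧ (χ : G → ℂ) z = (χ : G → ℂ) 1} = 4 := by
  have hp2 : Fact (Nat.Prime 2) := ⟨Nat.prime_two⟩
  have := isPrime_of_isPModular hM
  have hB : IsPBlock M B := hmax.1.2.1
  have hD := isDefectGroup_of_isMaximalBrauerPair hM hmax
  obtain ⟨h1, h2⟩ := defl_data hM hB hD hz1 hz2 hcen hZ
  rw [card_ker_eq B hz1 hz2 hZ]
  obtain ⟨f, hf⟩ := exists_pair_of_le_isDefectGroup hM h1 h2 le_rfl
  have hind := (isBrauerPairOf_iff_isInducedBlock hM h1 hf.1.1 hf.1.2).1 hf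
  exact (Cfsg.Agent.S4637.result M hM (defl Z B) h1 _ h2 hV f hind (pairStab M _ f)
    (fun g => mem_pairStab_iff_stabilizesBlock hM hf.1.2) _ rfl).2.1

end quotient

end Cfsg.Agent.H642.KerCount
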