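import Cfsg.Agent.H642.NineFive
import Cfsg.Agent.H841.Phi
import Cfsg.Agent.Fischer.Fi24Final

/-!
# S4844, row `Fi₂₄'`, `p = 5` (helper642)

The centralizer in `Fi₂₄'` of an element of order 5 has an even number of Sylow 5-subgroups: modulo the element it is
a group of permutations of nine letters containing the alternating group.
-/

set_option autoImplicit false
set_option maxRecDepth 100000

namespace Cfsg.Agent.H642.FiTFFive

open Subgroup Equiv Cfsg
open Cfsg.Spor (Fi24 Fi24')
open Cfsg.Agent.LThreeFi24.SNine Cfsg.Agent.H841.Five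
open Cfsg.Agent.LThreeFi24.FiveConj (orderOf_y0 exists_conj_five)

instance instFact5 : Fact (Nat.Prime 5) := ⟨by norm_num⟩

theorem card_fact : (Nat.card Fi24').factorization 5 = 2 := by
  rw [R08.FiTwentyFour.card_commutator, show (1255205709190661721292800 : ℕ) = 5 ^ 2 * 50208228367626468851712 by norm_num,
    Nat.factorization_mul (by norm_num) (by norm_num), Finsupp.add_apply,
    Nat.Prime.factorization_pow (by norm_num), Finsupp.single_eq_same,
    Nat.factorization_eq_zero_of_not_dvd (by norm_num)]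

theorem fin : Finite Fi24' := by
  have := LThreeFi24.FiveConj.finite
  exact Subtype.finite

/-- even permutations are in `Fi₂₄'` -/
theorem Phi_mem' {σ : Perm (Fin 9)} (h : σ ∈ alternatingGroup (Fin 9)) : Phi σ ∈ commutator Fi24 := by
  have h1 : alternatingGroup (Fin 9) ≤ (commutator Fi24).comap Phi := by
    rw [← Perm.closure_three_cycles_eq_alternating, closure_le]
    intro τ hτ
    have h2 : τ = (τ * τ) * (τ * τ) := by
      have h3 : τ ^ 3 = 1 := by rw [← hτ.orderOf, pow_orderOf_eq_one]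
      calc τ = τ ^ 3 * τ := by rw [h3, one_mul]
        _ = (τ * τ) * (τ * τ) := by rw [pow_succ, pow_two, mul_assoc (τ * τ)]
    show Phi τ ∈ commutator Fi24
    rw [h2, map_mul]
    exact mul_self_mem_of_index_two R08.FiTwentyFour.index_commutator _
  exact h1 h

/-- the element of order 5 in `Fi₂₄'` -/
theorem y0_mem' : y0 ∈ commutator Fi24 := by
  have h1 : y0 = y0 ^ 3 * y0 ^ 3 := by
    have h5 : y0 ^ 5 = 1 := by rw [← orderOf_y0, pow_orderOf_eq_one]
    calc y0 = y0 ^ 5 * y0 := by rw [h5, one_mul]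
      _ = y0 ^ 3 * y0 ^ 3 := by group
  rw [h1]
  exact mul_self_mem_of_index_two R08.FiTwentyFour.index_commutator _

/-- `y0` as an element of `Fi₂₄'` -/
noncomputable def yy : Fi24' := ⟨y0, y0_mem'⟩

/-- the centralizer in `Fi₂₄'` -/
noncomputable def C : Subgroup Fi24' := centralizer ({yy} : Set Fi24')

theorem mem_C {g : Fi24'} : g ∈ C ↔ (g : Fi24) ∈ G0 := by
  rw [C, mem_centralizer_singleton_iff, mem_G0]
  exact ⟨fun h => congrArg Subtype.val h, fun h => Subtype.ext h⟩

/-- the action on the nine letters -/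
noncomputable def pi : C →* Perm (Fin 9) where
  toFun g := (exists_R (mem_C.1 g.2)).choose
  map_one' := (exists_R (mem_C.1 (1 : C).2)).choose_spec.uniq R.one
  map_mul' g h := (exists_R (mem_C.1 (g * h).2)).choose_spec.uniq
    ((exists_R (mem_C.1 g.2)).choose_spec.mul (exists_R (mem_C.1 h.2)).choose_spec)

theorem R_pi (g : C) : R ((g : Fi24') : Fi24) (pi g) := (exists_R (mem_C.1 g.2)).choose_spec

theorem mem_range {σ : Perm (Fin 9)} (h : σ ∈ alternatingGroup (Fin 9)) : σ ∈ pi.range := by
  have h1 : (⟨Phi σ, Phi_mem' h⟩ : Fi24') ∈ C := mem_C.2 (mem_G0.2 (Phi_comm_y0 σ).eq)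
  exact ⟨⟨_, h1⟩, (R_pi ⟨_, h1⟩).uniq (R_Phi σ)⟩

theorem even_C : Even (Nat.card (Sylow 5 C)) := by
  have := fin
  refine H710.PSq.even_of_surjective pi.rangeRestrict pi.rangeRestrict_surjective ?_
  refine NineFive.even_sylow _ ?_ ?_
  · rintro _ ⟨k, rfl⟩
    exact mem_range (NineFive.t_sign k)
  · have h1 : alternatingGroup (Fin 9) ≤ pi.range := fun σ hσ => mem_range hσ
    refine dvd_trans ?_ (card_dvd_of_le h1)
    rw [nat_card_alternatingGroup, Nat.card_eq_fintype_card, Fintype.card_fin]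
    decide

/-- **`Fi₂₄'`, `p = 5`** -/
theorem even_card {x : Fi24'} (hx : orderOf x = 5) :
    Even (Nat.card (Sylow 5 (centralizer ({x} : Set Fi24')))) := by
  have := fin
  obtain ⟨g, hg⟩ := exists_conj_five (y := (x : Fi24)) (by rw [Subgroup.orderOf_coe, hx])
  have h1 : (MulAut.conjNormal g⁻¹ : MulAut Fi24') yy = x := by
    apply Subtype.ext
    rw [MulAut.conjNormal_apply]
    show g⁻¹ * y0 * g⁻¹⁻¹ = x
    rw [← hg]
    group
  rw [← h1]
  exact H710.PSq.even_cent_of_equiv (MulAut.conjNormal g⁻¹ : MulAut Fi24') even_C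

end Cfsg.Agent.H642.FiTFFive
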