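import Cfsg.Agent.H642.MonoPair
import Cfsg.Agent.H863.BMin
import Cfsg.Agent.H149.Sp.Baby
import Cfsg.Agent.S2084

/-!
# GoodMono: the Baby Monster (helper642, for S4572)
-/

set_option autoImplicit false

namespace Cfsg.Agent.H642.Mono

open Cfsg Cfsg.Agent.H649.MN Cfsg.Agent.H361.SelfCent Cfsg.Agent.OrdDiv

universe u

theorem minDeg_b : MinDeg Spor.BabyMonster 4371 := by
  have hf : Finite Spor.BabyMonster := CTwoTab.BInst.finite_B
  refine minDeg_of_rep (fun n ρ hρ => ?_) ?_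
  · have h := Cfsg.Agent.H863.BMin.min_degree (F := ℂ) two_ne_zero (W := Fin n → ℂ) ρ (by
      rintro rfl
      obtain ⟨g, hg⟩ := hρ
      exact hg rfl)
    simpa using h
  · obtain ⟨ρ, -, hρ⟩ := Cfsg.Agent.H863.BMin.exists_rep (F := ℂ) two_ne_zero
    refine ⟨ρ, ?_⟩
    by_contra hcon
    push Not at hcon
    exact hρ (MonoidHom.ext hcon)

theorem b (E : Env.{u}) {S : Type u} [Group S] [Finite S] [IsSimpleGroup S] (h : Spor.IsoB S) : GoodMono S := by
  have h0 := h
  obtain ⟨e⟩ := h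
  refine E.pair (.b, 4154781481226426191177580544000000) (by decide) h0
    ((Cfsg.Agent.H149.Sp.card_out_congr e).trans Cfsg.Agent.S2084.result)
    [(2, 41), (3, 13), (5, 6), (7, 2), (11, 1), (13, 1), (17, 1), (19, 1), (23, 1), (31, 1), (47, 1)] 31 47
    (by decide +kernel) (fun g hg => ?_) (minDeg_b.congr e.symm) (by norm_num)
  exact Cfsg.Agent.H149.Sp.not_adj_b ⟨e g, by rw [MulEquiv.orderOf_eq, hg]⟩

end Cfsg.Agent.H642.Mono
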