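import Cfsg.Agent.H642.MonoGood
import Cfsg.Agent.H843.N29
import Cfsg.Agent.H839.SeventeenMain

/-!
# GoodMono: the groups Fi23, Fi24' (helper642, for S4572)
-/

set_option autoImplicit false

namespace Cfsg.Agent.H642.Mono

open Cfsg Cfsg.Agent.H649.MN Cfsg.Agent.H361.SelfCent Cfsg.Agent.OrdDiv

universe u

theorem fi23 (E : Env.{u}) {S : Type u} [Group S] [Finite S] [IsSimpleGroup S] (h : Spor.IsoFi23 S) : GoodMono S := by
  have h0 := h
  obtain ⟨e⟩ := h
  have hcard := E.table.spor S (.fi23, 4089470473293004800) (by decide) h0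
  have hf : Finite Spor.Fi23 := Finite.of_equiv _ e.toEquiv
  refine E.row (Or.inr (Or.inr (Or.inr (Or.inr (Or.inr (Or.inr (Or.inr (Or.inr (Or.inr (Or.inr (Or.inr
    (Or.inr (Or.inr (Or.inr (Or.inr (Or.inr (Or.inr (Or.inr (Or.inr (Or.inr (Or.inl h0)))))))))))))))))))))
    (.fi23, 4089470473293004800) (by decide) h0
    [(2, 18), (3, 13), (5, 2), (7, 1), (11, 1), (13, 1), (17, 1), (23, 1)] [17, 23] ?_ (by decide +kernel)
  intro r hr
  simp only [List.mem_cons, List.not_mem_nil, or_false] at hr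
  rcases hr with rfl | rfl
  · refine cent_congr e (cent_of_all (by norm_num) (by rw [← Nat.card_congr e.toEquiv, hcard]; norm_num) fun P hP => ?_)
    rw [(Cfsg.Agent.H839.Fi23.seventeen_main P hP).2, hP]
  · refine cent_congr e (cent_of_all (by norm_num) (by rw [← Nat.card_congr e.toEquiv, hcard]; norm_num) fun P hP => ?_)
    rw [(Cfsg.Agent.H839.Fi23.twentythree_main P hP).2, hP]

theorem sit_Fi24 : Sit Spor.Fi24 29 (2510411418381323442585600 / 29) Cfsg.Agent.H843.D29.D.x :=
  sit_of_cent (by norm_num) Cfsg.Agent.H843.Fi24N.card_Fi24 (by norm_num) (by norm_num) (by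
    have h := Cfsg.Agent.H843.D29.main.2
    rwa [Subgroup.zpowers_eq_closure, Subgroup.centralizer_closure] at h)

theorem fi24 (E : Env.{u}) {S : Type u} [Group S] [Finite S] [IsSimpleGroup S] (h : Spor.IsoFi24' S) : GoodMono S := by
  have h0 := h
  obtain ⟨e⟩ := h
  have hcard := E.table.spor S (.fi24, 1255205709190661721292800) (by decide) h0
  have hf : Finite Spor.Fi24 := Cfsg.Agent.R08.FiTwentyFour.finite_Fi24
  refine E.row_one (Or.inr (Or.inr (Or.inr (Or.inr (Or.inr (Or.inr (Or.inr (Or.inr (Or.inr (Or.inr (Or.inr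
    (Or.inr (Or.inr (Or.inr (Or.inr (Or.inr (Or.inr (Or.inr (Or.inr (Or.inr (Or.inr (Or.inl h0))))))))))))))))))))))
    (.fi24, 1255205709190661721292800) (by decide) h0
    [(2, 21), (3, 16), (5, 2), (7, 3), (11, 1), (13, 1), (17, 1), (23, 1), (29, 1)] 29 ?_ (by decide +kernel)
  refine cent_congr e (cent_sub sit_Fi24 (by norm_num) (commutator Spor.Fi24) ?_)
  have h2 : Nat.card S = Nat.card (commutator Spor.Fi24) := Nat.card_congr e.toEquiv
  rw [← h2, hcard]
  norm_num

end Cfsg.Agent.H642.Mono
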