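import Cfsg.Agent.H642.MonoChar
import Cfsg.Agent.H547.SelfCent.He
import Cfsg.Agent.H845.HNNineteen

/-!
# GoodMono: the groups He and HN (helper642, for S4572)
-/

set_option autoImplicit false

namespace Cfsg.Agent.H642.Mono

open Cfsg Cfsg.Agent.H649.MN Cfsg.Agent.H361.SelfCent Cfsg.Agent.OrdDiv

universe u

theorem he (E : Env.{u}) {S : Type u} [Group S] [Finite S] [IsSimpleGroup S] (h : Spor.IsoHe S) : GoodMono S := by
  have hs : IsSporadicGroup S := Or.inr (Or.inr (Or.inr (Or.inr (Or.inr (Or.inr (Or.inr (Or.inr (Or.inr (Or.inr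
    (Or.inr (Or.inr (Or.inr (Or.inr (Or.inr (Or.inl h)))))))))))))))
  have hcard := E.table.spor S (.he, 4030387200) (by decide) h
  refine good_of_rel E.table E.known (E.out S hs) hcard
    [(2, 10), (3, 3), (5, 2), (7, 3), (17, 1)] 17 1029 [2058] [] ?_ (fun _ => List.not_mem_nil) (by decide +kernel)
  have : Fact (Nat.Prime 17) := ⟨by norm_num⟩
  obtain ⟨x, hx⟩ := exists_prime_orderOf_dvd_card' (G := S) 17 (by rw [hcard]; norm_num)
  exact ⟨x, Cfsg.Agent.H547.SelfCent.HeRow.he h hcard hx⟩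

theorem hn (E : Env.{u}) {S : Type u} [Group S] [Finite S] [IsSimpleGroup S] (h : Spor.IsoHN S) : GoodMono S := by
  have hs : IsSporadicGroup S := Or.inr (Or.inr (Or.inr (Or.inr (Or.inr (Or.inr (Or.inr (Or.inr (Or.inr (Or.inr
    (Or.inr (Or.inr (Or.inr (Or.inr (Or.inr (Or.inr (Or.inr (Or.inr (Or.inr (Or.inr (Or.inr (Or.inr
    (Or.inl h))))))))))))))))))))))
  have hcard := E.table.spor S (.hn, 273030912000000) (by decide) h
  refine good_of_rel E.table E.known (E.out S hs) hcard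
    [(2, 14), (3, 6), (5, 6), (7, 1), (11, 1), (19, 1)] 19 8250000 [16500000] [] ?_ (fun _ => List.not_mem_nil)
    (by decide +kernel)
  obtain ⟨e⟩ := h
  obtain ⟨x, -, hx⟩ := Cfsg.Agent.H845.HNNineteen.hn_nineteen
  exact cent_congr e ⟨x, hx⟩

end Cfsg.Agent.H642.Mono
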