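import Cfsg.Agent.H642.MonoGood
import Cfsg.Agent.H492.IMJ1
import Cfsg.Agent.H95.JThree
import Cfsg.Agent.H370.JNorm

/-!
# GoodMono: the Janko groups J1, J3, J4 (helper642, for S4572)
-/

set_option autoImplicit false

namespace Cfsg.Agent.H642.Mono

open Cfsg Cfsg.Agent.H649.MN Cfsg.Agent.H361.SelfCent Cfsg.Agent.OrdDiv

universe u

theorem j1 (E : Env.{u}) {S : Type u} [Group S] [Finite S] [IsSimpleGroup S] (h : Spor.IsoJ1 S) : GoodMono S := by
  have h0 := h
  obtain ⟨e⟩ := h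
  have hcard := E.table.spor S (.j1, 175560) (by decide) h0
  refine E.row_one (Or.inr (Or.inr (Or.inr (Or.inr (Or.inr (Or.inl h0)))))) (.j1, 175560) (by decide) h0
    [(2, 3), (3, 1), (5, 1), (7, 1), (11, 1), (19, 1)] 7 ?_ (by decide +kernel)
  refine cent_congr e ?_
  have : Fact (Nat.Prime 7) := ⟨by norm_num⟩
  have hf : Finite Spor.J1 := Finite.of_equiv _ e.toEquiv
  obtain ⟨x, hx⟩ := exists_prime_orderOf_dvd_card' (G := Spor.J1) 7
    (by rw [← Nat.card_congr e.toEquiv, hcard]; norm_num)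
  exact ⟨x, (Cfsg.Agent.H492.IMJ1.fus7 hx).1⟩

theorem j3 (E : Env.{u}) {S : Type u} [Group S] [Finite S] [IsSimpleGroup S] (h : Spor.IsoJ3 S) : GoodMono S := by
  refine E.row_one (Or.inr (Or.inr (Or.inr (Or.inr (Or.inr (Or.inr (Or.inr (Or.inl h)))))))) (.j3, 50232960)
    (by decide) h [(2, 7), (3, 5), (5, 1), (17, 1), (19, 1)] 19 ?_ (by decide +kernel)
  have : Fact (Nat.Prime 19) := ⟨by norm_num⟩
  obtain ⟨X⟩ : Nonempty (Sylow 19 S) := inferInstance
  obtain ⟨h1, h2, -⟩ := Cfsg.Agent.H95.JThree.nineteen h X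
  exact cent_of_sub (by norm_num) h1 (by rw [h2])

theorem j4 (E : Env.{u}) {S : Type u} [Group S] [Finite S] [IsSimpleGroup S] (h : Spor.IsoJ4 S) : GoodMono S := by
  have h0 := h
  obtain ⟨e⟩ := h
  have hcard := E.table.spor S (.j4, 86775571046077562880) (by decide) h0
  refine E.row_one (Or.inr (Or.inr (Or.inr (Or.inr (Or.inr (Or.inr (Or.inr (Or.inr (Or.inl h0)))))))))
    (.j4, 86775571046077562880) (by decide) h0
    [(2, 21), (3, 3), (5, 1), (7, 1), (11, 3), (23, 1), (29, 1), (31, 1), (37, 1), (43, 1)] 43 ?_ (by decide +kernel)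
  refine cent_congr e ?_
  have hf : Finite Spor.J4 := Finite.of_equiv _ e.toEquiv
  exact cent_of_all (by norm_num) (by rw [← Nat.card_congr e.toEquiv, hcard]; norm_num)
    fun P hP => Cfsg.Agent.H370.JNorm.data (by decide) hP

end Cfsg.Agent.H642.Mono
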