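import Cfsg.Agent.H642.MonoGood
import Cfsg.Agent.H655.LySixtySeven

/-!
# GoodMono: the Lyons group (helper642, for S4572)
-/

set_option autoImplicit false

namespace Cfsg.Agent.H642.Mono

open Cfsg Cfsg.Agent.H649.MN Cfsg.Agent.H361.SelfCent Cfsg.Agent.OrdDiv

universe u

theorem ly (E : Env.{u}) {S : Type u} [Group S] [Finite S] [IsSimpleGroup S] (h : Spor.IsoLy S) : GoodMono S := by
  have hcard := E.table.spor S (.ly, 51765179004000000) (by decide) h
  refine E.row_one (Or.inr (Or.inr (Or.inr (Or.inr (Or.inr (Or.inr (Or.inr (Or.inr (Or.inr (Or.inr (Or.inr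
    (Or.inr (Or.inr (Or.inr (Or.inr (Or.inr (Or.inr (Or.inr (Or.inl h)))))))))))))))))))
    (.ly, 51765179004000000) (by decide) h
    [(2, 8), (3, 7), (5, 6), (7, 1), (11, 1), (31, 1), (37, 1), (67, 1)] 67 ?_ (by decide +kernel)
  have : Fact (Nat.Prime 67) := ⟨by norm_num⟩
  obtain ⟨x, hx⟩ := exists_prime_orderOf_dvd_card' (G := S) 67 (by rw [hcard]; norm_num)
  exact ⟨x, Cfsg.Agent.H655.LySixtySeven.card_centralizer (fun X _ _ _ => E.known X) h hx⟩

end Cfsg.Agent.H642.Mono
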