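import Cfsg.Agent.H642.MonoGood
import Cfsg.Agent.H474.ONC.End

/-!
# GoodMono: the O'Nan group (helper642, for S4572)
-/

set_option autoImplicit false

namespace Cfsg.Agent.H642.Mono

open Cfsg Cfsg.Agent.H649.MN Cfsg.Agent.H361.SelfCent Cfsg.Agent.OrdDiv

universe u

theorem on (E : Env.{u}) {S : Type u} [Group S] [Finite S] [IsSimpleGroup S] (h : Spor.IsoON S) : GoodMono S := by
  have h0 := h
  obtain ⟨e⟩ := h
  refine E.row (Or.inr (Or.inr (Or.inr (Or.inr (Or.inr (Or.inr (Or.inr (Or.inr (Or.inr (Or.inr (Or.inr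
    (Or.inr (Or.inr (Or.inr (Or.inr (Or.inr (Or.inr (Or.inl h0))))))))))))))))))
    (.on, 460815505920) (by decide) h0
    [(2, 9), (3, 4), (5, 1), (7, 3), (11, 1), (19, 1), (31, 1)] [19, 11] ?_ (by decide +kernel)
  intro r hr
  simp only [List.mem_cons, List.not_mem_nil, or_false] at hr
  rcases hr with rfl | rfl
  · obtain ⟨x, -, hx⟩ := Cfsg.Agent.H474.ONC.on_nineteen
    exact cent_congr e ⟨x, hx⟩
  · obtain ⟨x, -, hx⟩ := Cfsg.Agent.H474.ONC.on_eleven
    exact cent_congr e ⟨x, hx⟩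

end Cfsg.Agent.H642.Mono
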