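import Cfsg.Agent.H642.MonoGood
import Cfsg.Agent.H574.RowTh

/-!
# GoodMono: the Thompson group (helper642, for S4572)
-/

set_option autoImplicit false

namespace Cfsg.Agent.H642.Mono

open Cfsg Cfsg.Agent.H649.MN Cfsg.Agent.H361.SelfCent Cfsg.Agent.OrdDiv

universe u

theorem th (E : Env.{u}) {S : Type u} [Group S] [Finite S] [IsSimpleGroup S] (h : Spor.IsoTh S) : GoodMono S := by
  have h0 := h
  obtain ⟨e⟩ := h
  have hcard := E.table.spor S (.th, 90745943887872000) (by decide) h0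
  have hf : Finite Spor.Th := Finite.of_equiv _ e.toEquiv
  have hc : Nat.card Spor.Th = 90745943887872000 := by rw [← Nat.card_congr e.toEquiv, hcard]
  refine E.row_one (Or.inr (Or.inr (Or.inr (Or.inr (Or.inr (Or.inr (Or.inr (Or.inr (Or.inr (Or.inr (Or.inr
    (Or.inr (Or.inr (Or.inr (Or.inr (Or.inr (Or.inr (Or.inr (Or.inr (Or.inr (Or.inr (Or.inr (Or.inr
    (Or.inl h0))))))))))))))))))))))))
    (.th, 90745943887872000) (by decide) h0
    [(2, 15), (3, 10), (5, 3), (7, 2), (13, 1), (19, 1), (31, 1)] 19 ?_ (by decide +kernel)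
  refine cent_congr e ?_
  have : Fact (Nat.Prime 19) := ⟨by norm_num⟩
  obtain ⟨x, hx⟩ := exists_prime_orderOf_dvd_card' (G := Spor.Th) 19 (by rw [hc]; norm_num)
  refine ⟨x, ?_⟩
  -- the centraliser is a 19-group
  have h1 : ∀ p : ℕ, p.Prime → p ∣ Nat.card (Subgroup.centralizer ({x} : Set Spor.Th)) → p = 19 := by
    intro p hp hpd
    by_contra hne
    have : Fact p.Prime := ⟨hp⟩
    obtain ⟨y, hy⟩ := exists_prime_orderOf_dvd_card' p hpd
    have hyG : orderOf (y : Spor.Th) = p := by rw [Subgroup.orderOf_coe, hy]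
    have hy1 : (y : Spor.Th) ≠ 1 := by
      intro h1
      rw [h1, orderOf_one] at hyG
      exact hp.one_lt.ne hyG
    refine Cfsg.Agent.H574.RowTh.th_nineteen hy1 (by
      rw [hyG]
      intro h2
      exact hne ((Nat.prime_dvd_prime_iff_eq (by norm_num) hp).1 h2).symm) ?_
    have hxy : x ∈ Subgroup.centralizer ({(y : Spor.Th)} : Set Spor.Th) := by
      rw [Subgroup.mem_centralizer_singleton_iff]
      exact (Subgroup.mem_centralizer_singleton_iff.1 y.2).symm
    rw [← hx]
    exact Subgroup.orderOf_dvd_natCard _ hxy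
  obtain ⟨k, hk⟩ : ∃ k, Nat.card (Subgroup.centralizer ({x} : Set Spor.Th)) = 19 ^ k :=
    ⟨_, Nat.eq_prime_pow_of_unique_prime_dvd Nat.card_pos.ne' (fun {d} hd hdd => h1 d hd hdd)⟩
  have h19 : 19 ∣ Nat.card (Subgroup.centralizer ({x} : Set Spor.Th)) := by
    rw [← hx]
    exact Subgroup.orderOf_dvd_natCard _ (Subgroup.mem_centralizer_singleton_iff.2 rfl)
  have hG : Nat.card (Subgroup.centralizer ({x} : Set Spor.Th)) ∣ 90745943887872000 := by
    rw [← hc]; exact Subgroup.card_subgroup_dvd_card _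
  rw [hk] at h19 hG ⊢
  have hk1 : k = 1 := by
    rcases k with _ | _ | k
    · norm_num at h19
    · rfl
    · exfalso
      have : 19 ^ 2 ∣ 90745943887872000 := (pow_dvd_pow 19 (by omega)).trans hG
      norm_num at this
  rw [hk1, pow_one]

end Cfsg.Agent.H642.Mono
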