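import Cfsg.Agent.H642.MonoChar
import Cfsg.Agent.H547.SelfCent.Tits
import Cfsg.Agent.H393.Iso.TitsJ4
import Cfsg.Agent.H867.TitsOut

/-!
# GoodMono: the Tits group (helper642, for S4572)
-/

set_option autoImplicit false

namespace Cfsg.Agent.H642.Mono

open Cfsg Cfsg.Agent.H649.MN Cfsg.Agent.H361.SelfCent Cfsg.Agent.OrdDiv

universe u

theorem tits (E : Env.{u}) {S : Type u} [Group S] [Finite S] [hs : IsSimpleGroup S] (h : Lie.IsoTits S) :
    GoodMono S := by
  have hcard := E.table.spor S (.tits, 17971200) (by decide) h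
  refine good_of_rel E.table E.known (Cfsg.Agent.H867.TitsOut.card_out_le h) hcard
    [(2, 11), (3, 3), (5, 2), (13, 1)] 13 8 [1600, 768, 144] [] ?_ (fun _ => List.not_mem_nil) (by decide +kernel)
  have : Fact (Nat.Prime 13) := ⟨by norm_num⟩
  obtain ⟨x, hx⟩ := exists_prime_orderOf_dvd_card' (G := S) 13 (by rw [hcard]; norm_num)
  exact ⟨x, Cfsg.Agent.H547.SelfCent.tits h hs (Cfsg.Agent.H393.Iso.na_tits h) hx⟩

end Cfsg.Agent.H642.Mono
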