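import Cfsg.Agent.H592.Height
import Cfsg.Agent.Characters.Brauer
import Cfsg.Agent.H644.ConjMax
import Cfsg.Prelude.Def_BlockRank

/-!
# Fong's reduction for blocks of `p`-solvable groups

`fong_reduction`: for a block `B` of the `p`-solvable group `G` with defect group `D` there are a group
`X` embedded in `G`, an invariant irreducible character `θ` of `O_{p'}(X)`, such that `D` is
isomorphic to a Sylow `p`-subgroup of `X` and the `p`-regular rank of `B` is at most the one of the
block `Irr(X | θ)` of `X`.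
-/

set_option autoImplicit false
set_option linter.unusedSectionVars false

open Cfsg

namespace Cfsg.Agent.H642.FongRed

open Cfsg.Agent Cfsg.Agent.Characters.Core Cfsg.Agent.OddOrderCharacters.IndRes

universe u

section ind

variable {G : Type u} [Group G] [Fintype G]

open Classical in
theorem pRegularPart_indFun (T : Subgroup G) (p : ℕ) (f : T → ℂ) :
    pRegularPart p (indFun T f) = indFun T (pRegularPart p f) := by
  funext g
  have h1 : ∀ x : G, extendByZero T (pRegularPart p f) (x⁻¹ * g * x) =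
      if IsPRegular p g then extendByZero T f (x⁻¹ * g * x) else 0 := by
    intro x
    have h2 : orderOf (x⁻¹ * g * x) = orderOf g := by
      have := (MulAut.conj x⁻¹).orderOf_eq g
      rwa [MulAut.conj_apply, inv_inv] at this
    by_cases hx : x⁻¹ * g * x ∈ T
    · rw [Characters.Brauer.extendByZero_mem T _ hx, Characters.Brauer.extendByZero_mem T _ hx]
      have h3 : IsPRegular p (⟨x⁻¹ * g * x, hx⟩ : T) ↔ IsPRegular p g := by
        unfold IsPRegular
        rw [Subgroup.orderOf_mk, h2]
      unfold pRegularPart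
      by_cases h4 : IsPRegular p g
      · rw [if_pos h4]
        exact if_pos (h3.2 h4)
      · rw [if_neg h4]
        exact if_neg fun h => h4 (h3.1 h)
    · rw [Characters.Brauer.extendByZero_notMem T _ hx,
        Characters.Brauer.extendByZero_notMem T _ hx]
      split_ifs <;> rfl
  rw [show indFun T (pRegularPart p f) g = (Nat.card T : ℂ)⁻¹ *
    ∑ x : G, extendByZero T (pRegularPart p f) (x⁻¹ * g * x) from rfl]
  rw [Finset.sum_congr rfl fun x _ => h1 x]
  by_cases h : IsPRegular p g
  · rw [Finset.sum_congr rfl fun x _ => if_pos h]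
    unfold pRegularPart
    exact if_pos h
  · rw [Finset.sum_congr rfl fun x _ => if_neg h, Finset.sum_const_zero, mul_zero]
    unfold pRegularPart
    exact if_neg h

/-- Induction as a linear map. -/
noncomputable def indL (T : Subgroup G) : (T → ℂ) →ₗ[ℂ] (G → ℂ) where
  toFun := indFun T
  map_add' := Characters.Brauer.indFun_add T
  map_smul' := Characters.Brauer.indFun_smul T

theorem blockRank_ind_le (T : Subgroup G) (p : ℕ) {B : Set (IrrCharacter G)}
    {B' : Set (IrrCharacter T)} (h : ∀ χ ∈ B, ∃ ψ ∈ B', (χ : G → ℂ) = indFun T (ψ : T → ℂ)) :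
    blockRank p B ≤ blockRank p B' := by
  have h1 : Submodule.span ℂ ((fun χ : IrrCharacter G => pRegularPart p (χ : G → ℂ)) '' B) ≤
      (Submodule.span ℂ ((fun χ : IrrCharacter T => pRegularPart p (χ : T → ℂ)) '' B')).map
        (indL T) := by
    rw [Submodule.span_le]
    rintro _ ⟨χ, hχ, rfl⟩
    obtain ⟨ψ, hψ, hχψ⟩ := h χ hχ
    refine ⟨pRegularPart p (ψ : T → ℂ), Submodule.subset_span ⟨ψ, hψ, rfl⟩, ?_⟩
    change indFun T (pRegularPart p (ψ : T → ℂ)) = pRegularPart p (χ : G → ℂ)
    rw [hχψ, pRegularPart_indFun]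
  unfold blockRank
  exact (Submodule.finrank_mono h1).trans (Submodule.finrank_map_le _ _)

end ind

theorem fong_reduction (p : ℕ) [Fact p.Prime] (M : Ideal AlgInt) (hM : IsPModular p M) (n : ℕ) :
    ∀ (G : Type u) [Group G] [Finite G], Nat.card G ≤ n → IsPSolvable p G →
      ∀ (B : Set (IrrCharacter G)), IsPBlock M B → ∀ (D : Subgroup G), IsDefectGroup p M B D →
      ∃ (X : Type u) (_ : Group X) (_ : Fintype X) (f : X →* G) (N : Subgroup X)
        (hN : N.Normal) (_ : Fintype N) (θ : IrrCharacter N) (B' : Set (IrrCharacter X))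
        (P : Sylow p X),
        Function.Injective f ∧ N = pPrimeCore p X ∧
        (∀ (g : X) (n : N), (θ : N → ℂ) ⟨g * n * g⁻¹, hN.conj_mem n n.2 g⟩ = (θ : N → ℂ) n) ∧
        IsPBlock M B' ∧
        (∀ χ : IrrCharacter X, χ ∈ B' ↔ classInner (fun n : N => (χ : X → ℂ) n) (θ : N → ℂ) ≠ 0) ∧
        Nonempty (D ≃* (P : Subgroup X)) ∧ blockRank p B ≤ blockRank p B' := by
  classical
  have hp : p.Prime := Fact.out
  have hprime : M.IsPrime := Blocks.Local.isPrime_of_isPModular hM
  induction n with
  | zero =>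
    intro G _ _ h
    exact absurd h (Nat.not_le.2 Nat.card_pos)
  | succ n ih =>
    intro G _ _ hcard hsolv B hB P hP
    have := Fintype.ofFinite G
    obtain ⟨χ, hχ⟩ : B.Nonempty := Blocks.Basic.isPBlock_nonempty hB
    obtain ⟨N, hNdef⟩ : ∃ N : Subgroup G, N = pPrimeCore p G := ⟨_, rfl⟩
    have hN : N.Normal := hNdef ▸ Lib.Cores.pPrimeCore_normal p
    have hNp : ¬ p ∣ Nat.card N := by
      rw [hNdef]
      exact hp.coprime_iff_not_dvd.1 (Lib.Cores.pPrimeCore_coprime (G := G) p).symm
    have := Fintype.ofFinite N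
    obtain ⟨θ, hθ⟩ := Blocks.Fong.exists_constituent N χ
    by_cases hinv : ∀ (g : G) (n : N),
        (θ : N → ℂ) ⟨g * n * g⁻¹, hN.conj_mem n n.2 g⟩ = (θ : N → ℂ) n
    · -- the invariant case
      obtain ⟨B₀, hB₀, hmem, hsyl, hdef⟩ :=
        S4492.result p M hM hsolv N hNdef θ hinv
      have hχ₀ : χ ∈ B₀ := (hmem χ).2 hθ
      have hBB : B = B₀ := Blocks.Basic.isPBlock_eq_of_mem hB hB₀ hχ hχ₀
      subst hBB
      obtain ⟨Q, rfl⟩ := hdef P hP
      exact ⟨G, inferInstance, inferInstance, MonoidHom.id G, N, hN, inferInstance, θ, B, Q,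
        fun _ _ h => h, hNdef, hinv, hB, hmem, ⟨MulEquiv.refl _⟩, le_rfl⟩
    · -- Clifford
      let b : Set (IrrCharacter N) := blockOf M (θ : N → ℂ)
      have hb : IsPBlock M b := Blocks.Basic.isPBlock_blockOf θ
      have hbs : ∀ θ' : IrrCharacter N, θ' ∈ b ↔ θ' = θ := by
        intro θ'
        constructor
        · intro h
          exact Subtype.ext (H592.Height.eq_of_sameBlock hM hNp θ.2 θ'.2 h).symm
        · rintro rfl
          exact Blocks.Basic.mem_blockOf_self _
      set T : Subgroup G := OddOrderCharacters.PF9.CliffGen.inertia N (θ : N → ℂ) with hTdef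
      have hT' : ∀ g : G, g ∈ T ↔
          ∀ h : N, (θ : N → ℂ) ⟨g * h * g⁻¹, hN.conj_mem h h.2 g⟩ = (θ : N → ℂ) h :=
        fun g => OddOrderCharacters.PF9.CliffGen.mem_inertia'
      have hst : H591.Reynolds.IsStab b T := by
        intro g
        rw [hT']
        constructor
        · intro h θ₁ hθ₁ θ' hθ'
          rw [hbs] at hθ₁ ⊢
          subst hθ₁
          apply Subtype.ext
          funext n
          rw [hθ' n, h n]
        · intro h
          have h1 := h θ ((hbs θ).2 rfl) (Blocks.Covering.conjIrr N g θ) (fun n => by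
            rw [Blocks.Covering.conjIrr_apply, H591.Reynolds.conjNormal_eq])
          rw [hbs] at h1
          intro n
          have h2 : (Blocks.Covering.conjIrr N g θ : N → ℂ) n = (θ : N → ℂ) n := by rw [h1]
          rw [Blocks.Covering.conjIrr_apply, H591.Reynolds.conjNormal_eq] at h2
          exact h2
      have hNT : N ≤ T :=
        OddOrderCharacters.PF9.CliffGen.le_inertia (isIrr_isClassFunction θ.2)
      have hTtop : T ≠ ⊤ := by
        intro h
        apply hinv
        intro g
        exact (hT' g).1 (h ▸ Subgroup.mem_top g)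
      have hTcard : Nat.card T ≤ n := by
        have h1 : Nat.card T < Nat.card G := by
          refine lt_of_le_of_ne (Nat.le_of_dvd Nat.card_pos (Subgroup.card_subgroup_dvd_card T)) ?_
          intro h
          exact hTtop (Subgroup.eq_top_of_card_eq T h)
        omega
      have := Fintype.ofFinite T
      obtain ⟨B', hB', ⟨ψ₀, hψ₀, θ₀, hθ₀, h₀⟩, hind⟩ :=
        (S4435.result p M hM N b hb T hst hNT).2.2 B hB ⟨χ, hχ, θ, (hbs θ).2 rfl, hθ⟩
      obtain ⟨hD1, -⟩ :=
        S4436.result p M hM N b hb T hst hNT B' hB' ⟨ψ₀, hψ₀, θ₀, hθ₀, h₀⟩ B hind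
      obtain ⟨D, hD⟩ := H592.Defect.exists_defectGroup p hM hB'
      obtain ⟨X, hX1, hX2, f, K, hK, hKf, ϑ, B₂, Q, hf, h1, h2, h3, h4, ⟨e⟩, h5⟩ :=
        ih T hTcard (PLocal.PSolvable.isPSolvable_subgroup hsolv T) B' hB' D hD
      have hrank : blockRank p B ≤ blockRank p B' := by
        refine blockRank_ind_le T p fun χ hχ => ?_
        exact (H591.ReynoldsMain.mem_induced_iff p hM hb hst hNT hB' hψ₀ hθ₀ h₀ hind χ).1 hχ
      have hPD : Nonempty (P ≃* D) := by
        obtain ⟨t, ht⟩ := H644.exists_conj_of_isDefectGroup hM hB hP (hD1 D hD)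
        have e1 : P ≃* (P.map (MulAut.conj t).toMonoidHom : Subgroup G) :=
          P.equivMapOfInjective _ (MulAut.conj t).injective
        have e2 : D ≃* (D.map T.subtype : Subgroup G) :=
          D.equivMapOfInjective _ T.subtype_injective
        exact ⟨e1.trans ((MulEquiv.subgroupCongr ht).trans e2.symm)⟩
      obtain ⟨e'⟩ := hPD
      exact ⟨X, hX1, hX2, T.subtype.comp f, K, hK, hKf, ϑ, B₂, Q,
        fun x y h => hf (T.subtype_injective h), h1, h2, h3, h4, ⟨e'.trans e⟩, hrank.trans h5⟩

end Cfsg.Agent.H642.FongRed
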