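import Cfsg.Agent.OddOrderCharacters.PF9.CliffGen
import Cfsg.Agent.CharactersDeep.CosetAverage
import Cfsg.Agent.S0886
import Cfsg.Agent.S4455
import Cfsg.Prelude.Def_BlockRank

/-!
# The `p`-regular rank of a set of characters over an invariant character of a normal subgroup

`N` normal in `G`, `θ ∈ Irr(N)` invariant in `G`.

* `exists_coset_fun`: on each coset `N g` all members of `Irr(G | θ)` are multiples of one function;
* `finrank_le`, `blockRank_le`: if every `p`-regular element is conjugate into some coset `N r`,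
  `r ∈ R`, then a subset of `Irr(G | θ)` has `p`-regular rank at most `|R|`.
-/

set_option autoImplicit false
set_option linter.unusedSectionVars false

open Cfsg
open scoped ComplexConjugate

namespace Cfsg.Agent.H642.SolvRank

open Cfsg.Agent.Characters.Core Cfsg.Agent

universe u

section lying

variable {U : Type u} [Group U] [Fintype U] (N : Subgroup U) [hN : N.Normal] [Fintype N]

/-- The constituents of a character whose restriction to `N` is a multiple of `θ` lie over `θ`. -/
theorem over_of_constituent [Fintype (IrrCharacter U)] {θ : N → ℂ} (hθ : IsIrrCharacter N θ)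
    {ξ : U → ℂ} {c : IrrCharacter U → ℕ}
    (hc : ξ = ∑ η : IrrCharacter U, (c η : ℂ) • (η : U → ℂ)) {e : ℂ}
    (hres : ∀ n : N, ξ n = e * θ n) {ζ : IrrCharacter U} (hζ : c ζ ≠ 0) :
    classInner (fun n : N => (ζ : U → ℂ) n) θ ≠ 0 := by
  classical
  intro h0
  have hζN : IsCharacter N (fun n : N => (ζ : U → ℂ) n) :=
    Characters.Clifford.isCharacter_restrict N (isIrr_isCharacter ζ.2)
  obtain ⟨φ, hφ, hφ'⟩ := S4455.exists_constituent hζN (isIrr_apply_one_ne_zero ζ.2)
  have h1 : classInner (fun n : N => ξ n) φ ≠ 0 := by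
    have h2 : (fun n : N => ξ n) = ∑ η : IrrCharacter U, (c η : ℂ) • (fun n : N => (η : U → ℂ) n) := by
      funext n
      rw [hc, Finset.sum_apply, Finset.sum_apply]
      rfl
    rw [h2, classInner_sum_left]
    have h3 : ∀ η : IrrCharacter U, ∃ k : ℕ, classInner (fun n : N => (η : U → ℂ) n) φ = k :=
      fun η => classInner_isNat (Characters.Clifford.isCharacter_restrict N
        (isIrr_isCharacter η.2)) (isIrr_isCharacter hφ)
    choose k hk using h3
    have h4 : ∑ η : IrrCharacter U, classInner ((c η : ℂ) • (fun n : N => (η : U → ℂ) n)) φ =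
        ((∑ η : IrrCharacter U, c η * k η : ℕ) : ℂ) := by
      push_cast
      refine Finset.sum_congr rfl fun η _ => ?_
      rw [classInner_smul_left, hk]
    rw [h4, Nat.cast_ne_zero]
    intro h5
    have h6 := (Finset.sum_eq_zero_iff.1 h5) ζ (Finset.mem_univ _)
    rcases Nat.mul_eq_zero.1 h6 with h7 | h7
    · exact hζ h7
    · apply hφ'
      rw [hk, h7, Nat.cast_zero]
  have h2 : (fun n : N => ξ n) = e • θ := funext hres
  rw [h2, classInner_smul_left] at h1
  have h3 : θ = φ := by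
    by_contra hne
    apply h1
    rw [classInner_irr_ne hθ hφ hne, mul_zero]
  exact hφ' (h3 ▸ h0)

/-- If `θ` extends to `θ'` then a character whose restriction to `N` is a multiple of `θ` is the
product of `θ'` with a function constant on the cosets of `N`. -/
theorem exists_mul {θ' : U → ℂ} (hθ' : IsIrrCharacter U θ')
    (hirr : IsIrrCharacter N (fun n : N => θ' n)) {ξ : U → ℂ} (hξ : IsCharacter U ξ) {e : ℂ}
    (hres : ∀ n : N, ξ n = e * θ' n) :
    ∃ η : U → ℂ, (∀ (n : N) (g : U), η ((n : U) * g) = η g) ∧ ξ = θ' * η := by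
  classical
  have := finite_irr (G := U)
  have := Fintype.ofFinite (IrrCharacter U)
  obtain ⟨c, hc, -⟩ := CharDeep.CliffordCorr.exists_nat_coeffs hξ
  have key : ∀ ζ : IrrCharacter U, ∃ η : U → ℂ, (∀ (n : N) (g : U), η ((n : U) * g) = η g) ∧
      (c ζ : ℂ) • (ζ : U → ℂ) = θ' * η := by
    intro ζ
    by_cases h : c ζ = 0
    · exact ⟨0, fun _ _ => rfl, by rw [h]; simp⟩
    · obtain ⟨η, -, h1, h2⟩ := CharactersDeep.CosetAverage.exists_irr_mul N θ' hθ' hirr ζ.1 ζ.2
        (over_of_constituent N hirr hc hres h)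
      refine ⟨(c ζ : ℂ) • η, fun n g => ?_, ?_⟩
      · rw [Pi.smul_apply, Pi.smul_apply, h1]
      · rw [mul_smul_comm, ← h2]
  choose η h1 h2 using key
  refine ⟨∑ ζ, η ζ, fun n g => ?_, ?_⟩
  · rw [Finset.sum_apply, Finset.sum_apply]
    exact Finset.sum_congr rfl fun ζ _ => h1 ζ n g
  · conv_lhs => rw [hc]
    rw [Finset.mul_sum]
    exact Finset.sum_congr rfl fun ζ _ => h2 ζ

end lying

section main

open Cfsg.Agent.OddOrderCharacters Cfsg.Agent.OddOrderCharacters.PF9.CliffGen

variable {G : Type u} [Group G] [Finite G] (N : Subgroup G) [hN : N.Normal]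

omit [Finite G] in
theorem isCyclic_quotient (g : G) :
    IsCyclic ((N ⊔ Subgroup.zpowers g : Subgroup G) ⧸
      N.subgroupOf (N ⊔ Subgroup.zpowers g : Subgroup G)) := by
  set H : Subgroup G := N ⊔ Subgroup.zpowers g with hH
  have hg : g ∈ H := (le_sup_right : Subgroup.zpowers g ≤ H) (Subgroup.mem_zpowers g)
  refine ⟨⟨QuotientGroup.mk ⟨g, hg⟩, fun x => ?_⟩⟩
  obtain ⟨⟨x, hx⟩, rfl⟩ := QuotientGroup.mk_surjective x
  have hx' := hx
  rw [hH, Subgroup.mem_sup_of_normal_left] at hx'
  obtain ⟨n, hn, y, ⟨k, hk⟩, hny⟩ := hx'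
  refine ⟨k, ?_⟩
  change (QuotientGroup.mk (⟨g, hg⟩ : H) : H ⧸ N.subgroupOf H) ^ k = _
  rw [← QuotientGroup.mk_zpow, QuotientGroup.eq, Subgroup.mem_subgroupOf]
  have h1 : ((((⟨g, hg⟩ : H) ^ k)⁻¹ * ⟨x, hx⟩ : H) : G) = (g ^ k)⁻¹ * x := by
    push_cast
    rfl
  rw [h1, ← hny, ← hk]
  have h2 := hN.conj_mem n hn (g ^ k)⁻¹
  rw [inv_inv] at h2
  convert h2 using 1
  group

/-- On the coset `N g` all members of `Irr(G | θ)` are multiples of one function. -/
theorem exists_coset_fun [Fintype N] {θ : N → ℂ} (hθ : IsIrrCharacter N θ)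
    (hinv : ∀ (g : G) (n : N), θ ⟨g * n * g⁻¹, hN.conj_mem n n.2 g⟩ = θ n) (g : G) :
    ∃ F : G → ℂ, (∃ n : N, F (n * g) ≠ 0) ∧ ∀ χ : G → ℂ, IsIrrCharacter G χ →
      classInner (fun n : N => χ n) θ ≠ 0 → ∃ c : ℂ, ∀ n : N, χ (n * g) = c * F (n * g) := by
  classical
  have := Fintype.ofFinite G
  set H : Subgroup G := N ⊔ Subgroup.zpowers g with hH
  have hNH : N ≤ H := le_sup_left
  have hg : g ∈ H := (le_sup_right : Subgroup.zpowers g ≤ H) (Subgroup.mem_zpowers g)
  have := Fintype.ofFinite H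
  set K : Subgroup H := N.subgroupOf H with hK
  have := Fintype.ofFinite K
  have hcyc : IsCyclic (H ⧸ K) := isCyclic_quotient N g
  set θK : K → ℂ := fun k => θ ⟨(k : H), Subgroup.mem_subgroupOf.1 k.2⟩ with hθK
  have hθKirr : IsIrrCharacter K θK :=
    isIrr_comp (Subgroup.subgroupOfEquivOfLe hNH).toMonoidHom
      (Subgroup.subgroupOfEquivOfLe hNH).surjective hθ
  obtain ⟨θ', hθ', hext⟩ := S0886.result K hcyc θK hθKirr
    (fun x n => hinv (x : G) ⟨(n : H), Subgroup.mem_subgroupOf.1 n.2⟩)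
  have hres : (fun k : K => θ' k) = θK := funext hext
  have hirr : IsIrrCharacter K (fun k : K => θ' k) := by rw [hres]; exact hθKirr
  let F : G → ℂ := fun x => if h : x ∈ H then θ' ⟨x, h⟩ else 0
  have hF : ∀ h : H, F (h : G) = θ' h := fun h => dif_pos h.2
  have hmem : ∀ n : N, (n : G) ∈ H := fun n => hNH n.2
  refine ⟨F, ?_, ?_⟩
  · have h1 := CharactersDeep.CosetAverage.cosetAverage_self K θ' hθ' hirr ⟨g, hg⟩
    by_contra hcon
    push Not at hcon
    have h2 : ∀ k : K, θ' ((k : H) * ⟨g, hg⟩) = 0 := by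
      intro k
      have h3 := hcon ⟨(k : H), Subgroup.mem_subgroupOf.1 k.2⟩
      rw [← hF]
      exact h3
    rw [Finset.sum_eq_zero fun k _ => by rw [h2 k, zero_mul], mul_zero] at h1
    exact zero_ne_one h1
  · intro χ hχ h0
    have hinv' : ∀ g, NormalInduced.conjFn N θ g = θ := fun g => funext (hinv g)
    have h1 := res_of_invariant hθ hinv' hχ h0
    have hθ1 : θ 1 ≠ 0 := isIrr_apply_one_ne_zero hθ
    obtain ⟨η, hη, hξ⟩ := exists_mul K hθ' hirr
      (ξ := fun h : H => χ h) (Characters.Clifford.isCharacter_restrict H (isIrr_isCharacter hχ))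
      (e := χ 1 / θ 1) (by
        intro k
        have h2 := h1 ⟨(k : H), Subgroup.mem_subgroupOf.1 k.2⟩
        rw [hext k, div_mul_eq_mul_div, eq_div_iff hθ1]
        exact h2)
    refine ⟨η ⟨g, hg⟩, fun n => ?_⟩
    have hnK : (⟨(n : G), hmem n⟩ : H) ∈ K := Subgroup.mem_subgroupOf.2 n.2
    have h3 := congrFun hξ (⟨(n : G), hmem n⟩ * ⟨g, hg⟩)
    have h4 := hη ⟨_, hnK⟩ ⟨g, hg⟩
    have h5 := hF (⟨(n : G), hmem n⟩ * ⟨g, hg⟩)
    change F ((n : G) * g) = _ at h5
    change χ ((n : G) * g) = _ at h3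
    rw [h3, h5, Pi.mul_apply, mul_comm]
    congr 1

variable {N}

theorem finrank_map_le {V W W' : Type*} [AddCommGroup V] [Module ℂ V] [AddCommGroup W] [Module ℂ W]
    [AddCommGroup W'] [Module ℂ W'] (S : Submodule ℂ V) [FiniteDimensional ℂ S]
    [FiniteDimensional ℂ W']
    (f : V →ₗ[ℂ] W) (g : V →ₗ[ℂ] W') (h : ∀ v ∈ S, g v = 0 → f v = 0) :
    Module.finrank ℂ (S.map f) ≤ Module.finrank ℂ W' := by
  have h1 := LinearMap.finrank_range_add_finrank_ker (f.domRestrict S)
  have h2 := LinearMap.finrank_range_add_finrank_ker (g.domRestrict S)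
  have h3 : LinearMap.ker (g.domRestrict S) ≤ LinearMap.ker (f.domRestrict S) := by
    rintro ⟨v, hv⟩ hv'
    exact h v hv hv'
  have h4 := Submodule.finrank_mono h3
  have h5 : Module.finrank ℂ (LinearMap.range (g.domRestrict S)) ≤ Module.finrank ℂ W' :=
    Submodule.finrank_le _
  rw [LinearMap.range_domRestrict] at h1
  omega

/-- A bound for the `p`-regular rank of a set of characters over an invariant character. -/
theorem blockRank_le [Fintype N] {θ : N → ℂ} (hθ : IsIrrCharacter N θ)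
    (hinv : ∀ (g : G) (n : N), θ ⟨g * n * g⁻¹, hN.conj_mem n n.2 g⟩ = θ n) {p : ℕ}
    {B : Set (IrrCharacter G)} (hB : ∀ χ ∈ B, classInner (fun n : N => (χ : G → ℂ) n) θ ≠ 0)
    {ι : Type*} [Fintype ι] (r : ι → G)
    (hR : ∀ g : G, ¬ p ∣ orderOf g → ∃ i, ∃ n : N, ∃ x : G, x * g * x⁻¹ = n * r i) :
    blockRank p B ≤ Fintype.card ι := by
  classical
  choose F hF hF' using exists_coset_fun N hθ hinv
  choose m hm using hF
  let S : Submodule ℂ (G → ℂ) := Submodule.span ℂ ((fun χ : IrrCharacter G => (χ : G → ℂ)) '' B)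
  let reg : (G → ℂ) →ₗ[ℂ] (G → ℂ) :=
    { toFun := fun f => pRegularPart p f
      map_add' := fun f f' => by
        funext g
        simp only [pRegularPart, Pi.add_apply]
        split_ifs <;> simp
      map_smul' := fun c f => by
        funext g
        simp only [pRegularPart, Pi.smul_apply, RingHom.id_apply]
        split_ifs <;> simp }
  let ev : (G → ℂ) →ₗ[ℂ] (ι → ℂ) :=
    { toFun := fun f i => f (m (r i) * r i)
      map_add' := fun f f' => rfl
      map_smul' := fun c f => rfl }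
  have h1 : blockRank p B = Module.finrank ℂ (S.map reg) := by
    unfold blockRank
    rw [Submodule.map_span, Set.image_image]
    rfl
  have hcls : ∀ f ∈ S, IsClassFunction G f := by
    intro f hf
    induction hf using Submodule.span_induction with
    | mem f hf =>
      obtain ⟨χ, -, rfl⟩ := hf
      exact isIrr_isClassFunction χ.2
    | zero => exact fun _ _ => rfl
    | add f f' _ _ h h' =>
      intro g x
      rw [Pi.add_apply, Pi.add_apply, h, h']
    | smul c f _ h =>
      intro g x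
      rw [Pi.smul_apply, Pi.smul_apply, h]
  have hcos : ∀ f ∈ S, ∀ g : G, ∃ c : ℂ, ∀ n : N, f (n * g) = c * F g (n * g) := by
    intro f hf g
    induction hf using Submodule.span_induction with
    | mem f hf =>
      obtain ⟨χ, hχ, rfl⟩ := hf
      exact hF' g χ χ.2 (hB χ hχ)
    | zero => exact ⟨0, fun _ => by simp⟩
    | add f f' _ _ h h' =>
      obtain ⟨c, hc⟩ := h
      obtain ⟨c', hc'⟩ := h'
      exact ⟨c + c', fun n => by rw [Pi.add_apply, hc, hc', add_mul]⟩
    | smul a f _ h =>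
      obtain ⟨c, hc⟩ := h
      exact ⟨a * c, fun n => by rw [Pi.smul_apply, hc, smul_eq_mul, mul_assoc]⟩
  rw [h1]
  refine (finrank_map_le S reg ev ?_).trans (by rw [Module.finrank_fintype_fun_eq_card])
  intro f hf hev
  funext g
  change pRegularPart p f g = 0
  by_cases hg : p ∣ orderOf g
  · unfold pRegularPart
    exact if_neg (fun h => h hg)
  · obtain ⟨i, n, x, hx⟩ := hR g hg
    have h2 : f g = f (n * r i) := by rw [← hx, hcls f hf]
    obtain ⟨c, hc⟩ := hcos f hf (r i)
    have h3 : f (m (r i) * r i) = 0 := congrFun hev i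
    rw [hc] at h3
    have h4 : c = 0 := (mul_eq_zero.1 h3).resolve_right (hm (r i))
    unfold pRegularPart
    refine (if_pos hg).trans ?_
    rw [h2, hc, h4, zero_mul]

end main

end Cfsg.Agent.H642.SolvRank
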