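import Cfsg.Agent.H642.MonoGood
import Cfsg.Agent.H417.CommPQ
import Cfsg.Agent.H649.MonoMin
import Cfsg.Agent.H600.Red

/-!
# Rows of GoodMono: groups with two non-adjacent primes and a known minimal degree (helper642, for S4572)

`no_pair` : a proper subgroup of `S` has order not divisible by `p q`.
`good_of_degree` : `A = S`, the minimal degree `d` of `S` is divisible by `q`.
-/

set_option autoImplicit false
set_option linter.unusedSectionVars false
set_option linter.unusedVariables false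

namespace Cfsg.Agent.H642.Mono

open Cfsg Cfsg.Agent.H649.MN Cfsg.Agent.Characters.Core Cfsg.Agent.H902.Mono
open Cfsg.Agent.H361.SelfCent Cfsg.Agent.OrdDiv

universe u

/-- the check for a pair of primes -/
def chkPair (n : ℕ) (l : List (ℕ × ℕ)) (p q : ℕ) : Bool :=
  valid l n && isPrimeB p && isPrimeB q && (p != q) && ((q - 1) % p != 0) && ((p - 1) % q != 0) &&
  (n % p == 0) && (n % q == 0) && (n % p ^ 2 != 0) && (n % q ^ 2 != 0) &&
  ((cands l n).all fun g => (ordN g % (p * q) != 0) || (ordN g == n))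

/-- proper subgroups have order not divisible by `p q` -/
theorem no_pair (T : OrderTable.{u})
    (hS : ∀ (X : Type u) [Group X] [Finite X] [IsSimpleGroup X], Cfsg.IsKnownSimple' X)
    {S : Type u} [Group S] [Finite S] {n : ℕ} (hn : Nat.card S = n) {l : List (ℕ × ℕ)} {p q : ℕ}
    (hchk : chkPair n l p q = true) (hno : ∀ g : S, orderOf g ≠ p * q) {H : Subgroup S} (hH : H ≠ ⊤)
    (hpH : p ∣ Nat.card H) : ¬ q ∣ Nat.card H := by
  intro hqH
  unfold chkPair at hchk
  simp only [Bool.and_eq_true, bne_iff_ne, ne_eq, beq_iff_eq] at hchk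
  obtain ⟨⟨⟨⟨⟨⟨⟨⟨⟨⟨hv, hp⟩, hq⟩, hpq⟩, h1⟩, h2⟩, hpn⟩, hqn⟩, hp2⟩, hq2⟩, hc⟩ := hchk
  have hp' := prime_of hp
  have hq' := prime_of hq
  have := Fact.mk hp'
  have := Fact.mk hq'
  have hHn : Nat.card H ∣ n := by rw [← hn]; exact Subgroup.card_subgroup_dvd_card H
  obtain ⟨x, y, hx, hy, hxy⟩ := Cfsg.Agent.H417.CommPQ.exists_commute (p := p) (q := q)
    (fun h => h2 (Nat.mod_eq_zero_of_dvd h)) (fun h => h1 (Nat.mod_eq_zero_of_dvd h)) hpq (Nat.card H) H rfl hpH hqH
    (fun h => hp2 (Nat.mod_eq_zero_of_dvd (h.trans hHn))) (fun h => hq2 (Nat.mod_eq_zero_of_dvd (h.trans hHn)))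
    (by
      intro X _ _ hXs hXna hXd hpqX
      obtain ⟨g, hg, -, hgo⟩ := exists_good T (hS X) hXna hv (hXd.trans hHn)
      rw [List.all_eq_true] at hc
      have h3 := hc g hg
      rw [Bool.or_eq_true, bne_iff_ne, beq_iff_eq, ← hgo] at h3
      rcases h3 with h3 | h3
      · exact h3 (Nat.mod_eq_zero_of_dvd hpqX)
      · rw [h3] at hXd
        apply hH
        apply Subgroup.eq_top_of_card_eq
        rw [hn]
        exact Nat.dvd_antisymm hHn hXd)
  apply hno (((x * y : H) : S))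
  rw [Subgroup.orderOf_coe, hxy.orderOf_mul_eq_mul_orderOf_of_coprime
    (by rw [hx, hy]; exact (Nat.coprime_primes hp' hq').2 hpq), hx, hy]

section

variable {A : Type} [Group A] [Fintype A] {S : Type u} [Group S] [Finite S] [IsSimpleGroup S]

theorem not_dvd_pair (T : OrderTable.{u})
    (hS : ∀ (X : Type u) [Group X] [Finite X] [IsSimpleGroup X], Cfsg.IsKnownSimple' X)
    (hna : ¬ IsMulCommutative S) (f : S →* A) (hf : Function.Injective f) (hN : (f.range).Normal)
    {n : ℕ} (hn : Nat.card S = n) {l : List (ℕ × ℕ)} {p q : ℕ}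
    (hi : ¬ q ∣ (f.range).index)
    (hchk : chkPair n l p q = true) (hno : ∀ g : S, orderOf g ≠ p * q) {D : ℕ}
    (hEq : ∀ χ : A → ℂ, NonMono f χ → χ 1 = (D : ℂ)) : ¬ q ∣ D := by
  intro hqD
  have hchk' := hchk
  unfold chkPair at hchk'
  simp only [Bool.and_eq_true, bne_iff_ne, ne_eq, beq_iff_eq] at hchk'
  obtain ⟨⟨⟨⟨⟨⟨⟨⟨⟨⟨hv, hp⟩, hq⟩, hpq⟩, h1⟩, h2⟩, hpn⟩, hqn⟩, hp2⟩, hq2⟩, hc⟩ := hchk'
  have hp' := prime_of hp
  have hq' := prime_of hq
  have := Fact.mk hp'
  obtain ⟨x, hx⟩ := exists_prime_orderOf_dvd_card' (G := S) p (by rw [hn]; exact Nat.dvd_of_mod_eq_zero hpn)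
  obtain ⟨H, hH, hxH, -, hqH, -⟩ := exists_sub' hna f hN (R := q) (D := D) hq'.ne_zero hi hqD hEq hf x (by
    rintro rfl
    rw [orderOf_one] at hx
    exact hp'.one_lt.ne hx)
  refine no_pair T hS hn hchk hno hH ?_ ?_
  · rw [← hx]
    exact Subgroup.orderOf_dvd_natCard H hxH
  · have h3 : q ∣ Nat.card H * H.index := by
      rw [Subgroup.card_mul_index, hn]
      exact Nat.dvd_of_mod_eq_zero hqn
    exact (hq'.dvd_mul.1 h3).resolve_right hqH

theorem range_eq_top (f : S →* A) (hf : Function.Injective f) (hN : (f.range).Normal)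
    (hc : Subgroup.centralizer (f.range : Set A) = ⊥) (hout : Nat.card (Cfsg.Out S) = 1) :
    f.range = ⊤ := by
  have h1 := Cfsg.Agent.H545.PQ.index_dvd_out f.range hc
  have h2 : (MulAut.conj : f.range →* MulAut f.range).range.index = (MulAut.conj : S →* MulAut S).range.index := by
    have e : S ≃* f.range := MonoidHom.ofInjective hf
    have h1 : (MulAut.conj : S →* MulAut S).range =
        (MulAut.conj : f.range →* MulAut f.range).range.map (MulAut.congr e.symm).toMonoidHom := by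
      ext f
      constructor
      · rintro ⟨y, rfl⟩
        refine ⟨MulAut.conj (e y), ⟨_, rfl⟩, ?_⟩
        ext z
        show e.symm (e y * e z * (e y)⁻¹) = y * z * y⁻¹
        simp
      · rintro ⟨_, ⟨x, rfl⟩, rfl⟩
        refine ⟨e.symm x, ?_⟩
        ext z
        show e.symm x * z * (e.symm x)⁻¹ = e.symm (x * e z * x⁻¹)
        simp
    rw [h1]
    exact (Subgroup.index_map_of_bijective (f := (MulAut.congr e.symm).toMonoidHom)
      (MulAut.congr e.symm).bijective _).symm
  rw [h2] at h1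
  have h3 : (MulAut.conj : S →* MulAut S).range.index = 1 := hout
  rw [h3] at h1
  exact Subgroup.index_eq_one.1 (Nat.dvd_one.1 h1)

end

/-! ### the minimal degree -/

/-- the minimal degree of a nontrivial irreducible character is `d` -/
structure MinDeg (S : Type*) [Group S] (d : ℕ) : Prop where
  le : ∀ θ : S → ℂ, IsIrrCharacter S θ → θ ≠ 1 → d ≤ charDegree θ
  ex : ∃ θ : S → ℂ, IsIrrCharacter S θ ∧ θ ≠ 1 ∧ charDegree θ = d

theorem MinDeg.congr {S T : Type*} [Group S] [Group T] (e : S ≃* T) {d : ℕ} (h : MinDeg S d) : MinDeg T d := by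
  have h1 : ∀ θ : T → ℂ, charDegree (θ ∘ e) = charDegree θ := by
    intro θ
    unfold charDegree
    rw [Function.comp_apply, map_one]
  have h2 : ∀ θ : S → ℂ, charDegree (θ ∘ e.symm) = charDegree θ := by
    intro θ
    unfold charDegree
    rw [Function.comp_apply, map_one]
  refine ⟨fun θ hθ hne => ?_, ?_⟩
  · rw [← h1]
    refine h.le (θ ∘ e.toMonoidHom) (isIrr_comp e.toMonoidHom e.surjective hθ) fun hcon => hne ?_
    funext t
    have := congrFun hcon (e.symm t)
    simpa using this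
  · obtain ⟨θ, hθ, hne, hd⟩ := h.ex
    refine ⟨θ ∘ e.symm.toMonoidHom, isIrr_comp e.symm.toMonoidHom e.symm.surjective hθ, fun hcon => hne ?_, ?_⟩
    · funext s
      have := congrFun hcon (e s)
      simpa using this
    · rw [← hd]; exact h2 θ

theorem minDeg_of_rep {S : Type*} [Group S] [Finite S] {d : ℕ}
    (hle : ∀ (n : ℕ) (ρ : Representation ℂ S (Fin n → ℂ)), (∃ g, ρ g ≠ 1) → d ≤ n)
    (hex : ∃ ρ : Representation ℂ S (Fin d → ℂ), ∃ g, ρ g ≠ 1) : MinDeg S d := by
  classical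
  have : Fintype S := Fintype.ofFinite S
  have hle' : ∀ θ : S → ℂ, IsIrrCharacter S θ → θ ≠ 1 → d ≤ charDegree θ := by
    intro θ hθ hne
    have hθ' := hθ
    obtain ⟨n, ρ, hρ, rfl⟩ := hθ
    have h1 := Cfsg.Agent.Blocks.Basic.irr_one_eq_charDegree hθ'
    have h2 : charDegree ρ.character = n := by
      have h3 : (n : ℂ) = (charDegree ρ.character : ℂ) := by
        rw [← h1]; simp
      exact_mod_cast h3.symm
    rw [h2]
    apply hle n ρ
    by_contra hcon
    push Not at hcon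
    apply hne
    have h3 : ∀ g, ρ.character g = ρ.character 1 := fun g =>
      (Cfsg.Agent.H600.Red.char_eq_one_iff ρ g).2 (hcon g)
    have hn0 : n ≠ 0 := by
      rintro rfl
      exact isIrr_apply_one_ne_zero hθ' (by simp)
    -- a one-dimensional subspace is invariant
    obtain ⟨c, hc1⟩ : ∃ c : ℂ, ∀ g, ρ.character g = c := ⟨_, h3⟩
    have h4 : Function.const S c = ρ.character := by funext g; exact (hc1 g).symm
    have hself := classInner_irr_self hθ'
    have h5 := classInner_irr_self (isIrr_one (G := S))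
    by_contra hne'
    have h6 := classInner_irr_ne hθ' isIrr_one hne'
    have h7 : ρ.character = c • (1 : S → ℂ) := by
      funext g
      rw [hc1 g]
      simp
    rw [h7, classInner_smul_left, h5, mul_one] at h6
    exact isIrr_ne_zero hθ' (by rw [h7, h6, zero_smul])
  refine ⟨hle', ?_⟩
  obtain ⟨ρ, g, hg⟩ := hex
  have : Finite (IrrCharacter S) := finite_irr
  have : Fintype (IrrCharacter S) := Fintype.ofFinite _
  obtain ⟨m, hm⟩ := exists_nat_comb (χ := ρ.character) ⟨d, ρ, rfl⟩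
  have h1 : ∃ θ : IrrCharacter S, (θ : S → ℂ) ≠ 1 ∧ m θ ≠ 0 := by
    by_contra hcon
    push Not at hcon
    apply hg
    rw [← Cfsg.Agent.H600.Red.char_eq_one_iff]
    have h3 : ∀ t : S, ρ.character t = ∑ ψ : IrrCharacter S, m ψ • (ψ : S → ℂ) t := by
      intro t
      have := congrFun hm t
      simpa [Finset.sum_apply] using this
    rw [h3, h3]
    refine Finset.sum_congr rfl fun θ _ => ?_
    by_cases hθ : (θ : S → ℂ) = 1
    · rw [hθ]; rfl
    · rw [hcon θ hθ]; simp
  obtain ⟨θ, hθ, hmθ⟩ := h1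
  have h5 : d = ∑ ψ : IrrCharacter S, m ψ * charDegree (ψ : S → ℂ) := by
    have h6 : ρ.character 1 = ∑ ψ : IrrCharacter S, m ψ • (ψ : S → ℂ) 1 := by
      have := congrFun hm 1
      simpa [Finset.sum_apply] using this
    have h7 : (d : ℂ) = ((∑ ψ : IrrCharacter S, m ψ * charDegree (ψ : S → ℂ) : ℕ) : ℂ) := by
      have h8 : ρ.character 1 = (d : ℂ) := by simp
      rw [← h8, h6]
      push_cast
      refine Finset.sum_congr rfl fun ψ _ => ?_
      rw [Cfsg.Agent.Blocks.Basic.irr_one_eq_charDegree ψ.2, nsmul_eq_mul]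
    exact_mod_cast h7
  have h6 : m θ * charDegree (θ : S → ℂ) ≤ ∑ ψ : IrrCharacter S, m ψ * charDegree (ψ : S → ℂ) :=
    Finset.single_le_sum (f := fun ψ : IrrCharacter S => m ψ * charDegree (ψ : S → ℂ))
      (fun _ _ => Nat.zero_le _) (Finset.mem_univ θ)
  have h7 : 1 ≤ m θ := Nat.one_le_iff_ne_zero.2 hmθ
  have h8 := hle' θ θ.2 hθ
  refine ⟨θ, θ.2, hθ, le_antisymm ?_ h8⟩
  rw [← h5] at h6
  nlinarith

theorem hom_eq_one {S : Type*} [Group S] [IsSimpleGroup S] (hna : ¬ IsMulCommutative S) {B : Type*} [CommGroup B]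
    (g : S →* B) : g = 1 := by
  rcases g.normal_ker.eq_bot_or_eq_top with h1 | h1
  · exfalso
    apply hna
    refine ⟨⟨fun a b => ?_⟩⟩
    have h2 : a * b * (b * a)⁻¹ ∈ g.ker := by
      rw [MonoidHom.mem_ker, map_mul, map_inv, map_mul, map_mul, mul_comm (g b) (g a), mul_inv_cancel]
    rw [h1, Subgroup.mem_bot] at h2
    exact mul_inv_eq_one.1 h2
  · ext x
    have : x ∈ g.ker := h1 ▸ Subgroup.mem_top x
    rw [MonoidHom.mem_ker] at this
    rw [this]
    rfl

/-- **The row from the minimal degree.** -/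
theorem good_of_degree {S : Type u} [Group S] [Finite S] [IsSimpleGroup S] (hna : ¬ IsMulCommutative S)
    (hout : Nat.card (Cfsg.Out S) = 1) {d R : ℕ} (hRd : R ∣ d) (hd : MinDeg S d)
    (hnd : ∀ (A : Type) [Group A] [Fintype A] (f : S →* A), Function.Injective f → (f.range).Normal →
      f.range = ⊤ → ∀ D : ℕ, (∀ χ : A → ℂ, NonMono f χ → χ 1 = (D : ℂ)) → ¬ R ∣ D) : GoodMono S := by
  intro A _ _ f hf hN hc _
  have htop := range_eq_top f hf hN hc hout
  have hsurj : Function.Surjective f := MonoidHom.range_eq_top.1 htop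
  let e : S ≃* A := MulEquiv.ofBijective f ⟨hf, hsurj⟩
  have he : ∀ s, e s = f s := fun s => rfl
  by_contra hcon
  push Not at hcon
  by_cases hex : ∃ χ : A → ℂ, NonMono f χ
  · obtain ⟨χ, hχ⟩ := hex
    have h3 := Cfsg.Agent.Blocks.Basic.irr_one_eq_charDegree hχ.irr
    have hEq : ∀ ψ : A → ℂ, NonMono f ψ → ψ 1 = (charDegree χ : ℂ) := fun ψ hψ => by
      rw [← h3]
      exact (hcon χ ψ hχ hψ).symm
    have hA := hd.congr e
    have hlin : ∀ g : f.range →* ℂˣ, g = 1 := by
      intro g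
      have h1 := hom_eq_one hna (g.comp f.rangeRestrict)
      ext x
      obtain ⟨_, s, rfl⟩ := x
      have := congrArg (fun k : S →* ℂˣ => k s) h1
      exact congrArg Units.val this
    have hNT : ∀ ψ : A → ℂ, IsIrrCharacter A ψ → ((∃ s : S, ψ (f s) ≠ ψ 1) ↔ ψ ≠ 1) := by
      intro ψ hψ
      constructor
      · rintro ⟨s, hs⟩ rfl
        exact hs rfl
      · intro hne
        by_contra hcon
        push Not at hcon
        apply hne
        have h5 : ψ = (ψ 1) • (1 : A → ℂ) := by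
          funext a
          obtain ⟨s, rfl⟩ := hsurj a
          rw [hcon s]
          simp
        by_contra hne'
        have h6 := classInner_irr_ne hψ isIrr_one hne'
        rw [h5, classInner_smul_left, classInner_irr_self (isIrr_one (G := A)), mul_one] at h6
        exact isIrr_apply_one_ne_zero hψ h6
    have hdχ : d ≤ charDegree χ := hA.le χ hχ.irr ((hNT χ hχ.irr).1 hχ.nontriv)
    obtain ⟨θ, hθ, hθ1, hθd⟩ := hA.ex
    have hle := le_charDegree (T := f.range) hlin (d := charDegree χ) (fun ψ hψ hnt hm => by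
      obtain ⟨_, ⟨s, rfl⟩, hs⟩ := hnt
      have h4 := hEq ψ ⟨hψ, ⟨s, hs⟩, hm⟩
      rw [Cfsg.Agent.Blocks.Basic.irr_one_eq_charDegree hψ] at h4
      exact_mod_cast h4) hθ (by
        obtain ⟨s, hs⟩ := (hNT θ hθ).2 hθ1
        exact ⟨f s, ⟨s, rfl⟩, hs⟩)
    have hD : charDegree χ = d := le_antisymm (hle.trans hθd.le) hdχ
    exact hnd A f hf hN htop _ hEq (hD ▸ hRd)
  · push Not at hex
    exact hnd A f hf hN htop R (fun χ hχ => absurd hχ (hex χ)) dvd_rfl

/-- the row of a sporadic group from the minimal degree and a pair of primes -/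
theorem Env.pair (E : Env.{u}) {S : Type u} [Group S] [Finite S] [IsSimpleGroup S]
    (x : Grp × ℕ) (hx : x ∈ OrdDiv.spor) (hr : Real x.1 S) (hout : Nat.card (Cfsg.Out S) = 1)
    (l : List (ℕ × ℕ)) (p q : ℕ) (hchk : chkPair x.2 l p q = true) (hno : ∀ g : S, orderOf g ≠ p * q)
    {d : ℕ} (hd : MinDeg S d) (hqd : q ∣ d) : GoodMono S := by
  have hn := E.table.spor S x hx hr
  have hchk' := hchk
  unfold chkPair at hchk'
  simp only [Bool.and_eq_true, bne_iff_ne, ne_eq, beq_iff_eq] at hchk'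
  obtain ⟨⟨⟨⟨⟨⟨⟨⟨⟨⟨hv, hp⟩, hq⟩, hpq⟩, h1⟩, h2⟩, hpn⟩, hqn⟩, hp2⟩, hq2⟩, hc⟩ := hchk'
  have hp' := prime_of hp
  have hq' := prime_of hq
  have hna : ¬ IsMulCommutative S := by
    intro h
    let _ : CommGroup S := { (inferInstance : Group S) with mul_comm := fun a b => h.is_comm.comm a b }
    have h3 : (Nat.card S).Prime := IsSimpleGroup.prime_card
    rw [hn] at h3
    exact hpq (((Nat.prime_dvd_prime_iff_eq hp' h3).1 (Nat.dvd_of_mod_eq_zero hpn)).trans
      ((Nat.prime_dvd_prime_iff_eq hq' h3).1 (Nat.dvd_of_mod_eq_zero hqn)).symm)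
  refine good_of_degree hna hout hqd hd fun A _ _ f hf hN htop D hEq => ?_
  exact not_dvd_pair E.table E.known hna f hf hN hn (by
    rw [htop, Subgroup.index_top]
    exact fun h => hq'.one_lt.ne' (Nat.dvd_one.1 h)) hchk hno hEq

end Cfsg.Agent.H642.Mono
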