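import Cfsg.Agent.H642.MonoGood
import Cfsg.Agent.OrdDiv.Table
import Cfsg.Agent.H498.SporOut
import Cfsg.Agent.S0000

/-!
# The context of the sporadic rows of GoodMono (helper642, for S4572)
-/

set_option autoImplicit false

namespace Cfsg.Agent.H642.Mono

universe u

theorem env : Env.{u} where
  table := Cfsg.Agent.OrdDiv.table
  known _ _ _ _ := Cfsg.Agent.S0000.result
  out _ _ h := Cfsg.Agent.H498.SporOut.index_le_two h

end Cfsg.Agent.H642.Mono
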