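import Cfsg.Agent.H642.MonoBase
import Cfsg.Agent.H642.MonoSit
import Cfsg.Agent.H424.BlockTools
import Cfsg.Agent.H545.PQ.RowTool
import Cfsg.Prelude.Def_KGroupFacts
import Cfsg.Prelude.Def_Classification2

/-!
# Rows of GoodMono: groups with a self-centralising element of prime order (helper642, for S4572)

`good_of_list` : the theorem for a simple group `S` of order `n`, `|Out S| ≤ 2`, with self-centralising elements
of the prime orders in the list `L`, and a numerical check.
-/

set_option autoImplicit false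
set_option linter.unusedSectionVars false
set_option linter.unusedVariables false

namespace Cfsg.Agent.H642.Mono

open Cfsg Cfsg.Agent.H649.MN Cfsg.Agent.Characters.Core Cfsg.Agent.H902.Mono
open Cfsg.Agent.H361.SelfCent Cfsg.Agent.OrdDiv

universe u

theorem sit_of_cent {S : Type*} [Group S] {r n : ℕ} {x : S} (hr : r.Prime) (hn : Nat.card S = n)
    (h1 : n % r = 0) (h2 : n % r ^ 2 ≠ 0) (hc : Nat.card (Subgroup.centralizer ({x} : Set S)) = r) :
    Sit S r (n / r) x := by
  have h3 : r * (n / r) = n := Nat.mul_div_cancel' (Nat.dvd_of_mod_eq_zero h1)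
  refine ⟨hr, by rw [hn, h3], fun h => h2 ?_, hc⟩
  obtain ⟨k, hk⟩ := h
  apply Nat.mod_eq_zero_of_dvd
  exact ⟨k, by rw [← h3, hk]; ring⟩

section

variable {A : Type} [Group A] [Fintype A] {S : Type u} [Group S] [Finite S] [IsSimpleGroup S]

/-- Degrees of irreducible characters of `A` nontrivial on `S` are at least three. -/
theorem three_le_charDegree (f : S →* A) (hp : ¬ (Nat.card S).Prime) (h2 : 2 ∣ Nat.card S) {χ : A → ℂ}
    (hχ : IsIrrCharacter A χ) (hnt : ∃ s : S, χ (f s) ≠ χ 1) : 3 ≤ charDegree χ := by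
  classical
  have : Fintype S := Fintype.ofFinite S
  have : Finite (IrrCharacter S) := finite_irr
  have : Fintype (IrrCharacter S) := Fintype.ofFinite _
  obtain ⟨m, hm⟩ := exists_nat_comb (isCharacter_comp f (isIrr_isCharacter hχ))
  have h1 : ∃ θ : IrrCharacter S, (θ : S → ℂ) ≠ 1 ∧ m θ ≠ 0 := by
    by_contra hcon
    push Not at hcon
    obtain ⟨s, hs⟩ := hnt
    apply hs
    have h3 : ∀ t : S, χ (f t) = ∑ ψ : IrrCharacter S, m ψ • (ψ : S → ℂ) t := by
      intro t
      have := congrFun hm t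
      simpa [Finset.sum_apply] using this
    rw [← map_one f, h3, h3]
    refine Finset.sum_congr rfl fun θ _ => ?_
    by_cases hθ : (θ : S → ℂ) = 1
    · rw [hθ]; rfl
    · rw [hcon θ hθ]; simp
  obtain ⟨θ, hθ, hmθ⟩ := h1
  have h3 := Cfsg.Agent.H424.BlockTools.three_le hp h2 θ.2 hθ
  have h4 : (charDegree χ : ℂ) = ∑ ψ : IrrCharacter S, m ψ • (ψ : S → ℂ) 1 := by
    rw [← Cfsg.Agent.Blocks.Basic.irr_one_eq_charDegree hχ]
    have := congrFun hm 1
    simpa [Finset.sum_apply] using this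
  have h5 : charDegree χ = ∑ ψ : IrrCharacter S, m ψ * charDegree (ψ : S → ℂ) := by
    have : (charDegree χ : ℂ) = ((∑ ψ : IrrCharacter S, m ψ * charDegree (ψ : S → ℂ) : ℕ) : ℂ) := by
      rw [h4]
      push_cast
      refine Finset.sum_congr rfl fun ψ _ => ?_
      rw [Cfsg.Agent.Blocks.Basic.irr_one_eq_charDegree ψ.2, nsmul_eq_mul]
    exact_mod_cast this
  rw [h5]
  have h6 : m θ * charDegree (θ : S → ℂ) ≤ ∑ ψ : IrrCharacter S, m ψ * charDegree (ψ : S → ℂ) :=
    Finset.single_le_sum (f := fun ψ : IrrCharacter S => m ψ * charDegree (ψ : S → ℂ))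
      (fun _ _ => Nat.zero_le _) (Finset.mem_univ θ)
  have h7 : 1 ≤ m θ := Nat.one_le_iff_ne_zero.2 hmθ
  nlinarith

theorem index_dvd_two (f : S →* A) (hf : Function.Injective f) (hN : (f.range).Normal)
    (hc : Subgroup.centralizer (f.range : Set A) = ⊥) (hout : Nat.card (Cfsg.Out S) ≤ 2) :
    (f.range).index ∣ 2 := by
  have h1 := Cfsg.Agent.H545.PQ.index_dvd_out f.range hc
  have h2 : (MulAut.conj : f.range →* MulAut f.range).range.index = (MulAut.conj : S →* MulAut S).range.index := by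
    have e : S ≃* f.range := MonoidHom.ofInjective hf
    have h1 : (MulAut.conj : S →* MulAut S).range =
        (MulAut.conj : f.range →* MulAut f.range).range.map (MulAut.congr e.symm).toMonoidHom := by
      ext f
      constructor
      · rintro ⟨y, rfl⟩
        refine ⟨MulAut.conj (e y), ⟨_, rfl⟩, ?_⟩
        ext z
        show e.symm (e y * e z * (e y)⁻¹) = y * z * y⁻¹
        simp
      · rintro ⟨_, ⟨x, rfl⟩, rfl⟩
        refine ⟨e.symm x, ?_⟩
        ext z
        show e.symm x * z * (e.symm x)⁻¹ = e.symm (x * e z * x⁻¹)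
        simp
    rw [h1]
    exact (Subgroup.index_map_of_bijective (f := (MulAut.congr e.symm).toMonoidHom)
      (MulAut.congr e.symm).bijective _).symm
  rw [h2] at h1
  have h3 : (MulAut.conj : S →* MulAut S).range.index ≤ 2 := hout
  have h4 : (f.range).index ≠ 0 := Subgroup.index_ne_zero_of_finite
  have h5 : (MulAut.conj : S →* MulAut S).range.index ≠ 0 := Subgroup.index_ne_zero_of_finite
  have h6 : (MulAut.conj : S →* MulAut S).range.index = 1 ∨ (MulAut.conj : S →* MulAut S).range.index = 2 := by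
    omega
  rcases h6 with h6 | h6
  · rw [h6] at h1
    exact h1.trans (one_dvd 2)
  · rw [h6] at h1
    exact h1

/-- `R` does not divide the common degree `D` of the non-monomial characters -/
theorem not_dvd_of_hits (T : OrderTable.{u})
    (hS : ∀ (X : Type u) [Group X] [Finite X] [IsSimpleGroup X], Cfsg.IsKnownSimple' X)
    (hna : ¬ IsMulCommutative S) (f : S →* A) (hf : Function.Injective f) (hN : (f.range).Normal)
    (hi : (f.range).index ∣ 2) {n : ℕ} (hn : Nat.card S = n) {l : List (ℕ × ℕ)} (hv : valid l n = true)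
    {r m : ℕ} {x : S} (h : Sit S r m x) (hm : m ≠ 1) {D R : ℕ} (hR0 : R ≠ 0) (hRi : ¬ R ∣ (f.range).index)
    (hEq : ∀ χ : A → ℂ, NonMono f χ → χ 1 = (D : ℂ))
    (hchk : ((hits n l r 2).all fun c => n / c % R == 0) = true) : ¬ R ∣ D := by
  intro hRD
  have hx : x ≠ 1 := by
    rintro rfl
    have h1 := h.orderOf_eq hm
    rw [orderOf_one] at h1
    exact h.prime.one_lt.ne h1
  obtain ⟨H, -, hxH, hnp, hRH, hsz⟩ := exists_sub' hna f hN hR0 hRi hRD hEq hf x hx
  have hsz' : H.index ^ 2 < 2 * n := by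
    refine hsz.trans_le ?_
    rw [hn]
    exact Nat.mul_le_mul_right _ (Nat.le_of_dvd (by norm_num) hi)
  have h1 := card_mem_hits T hS h hm hn hv hxH hnp hsz'
  rw [List.all_eq_true] at hchk
  have h2 := hchk _ h1
  rw [beq_iff_eq] at h2
  apply hRH
  apply Nat.dvd_of_mod_eq_zero
  rwa [← hn, ← Subgroup.card_mul_index H, Nat.mul_div_cancel_left _ Nat.card_pos] at h2

end

/-- the check -/
def chkL (n : ℕ) (l : List (ℕ × ℕ)) (L : List ℕ) : Bool :=
  (n % 2 == 0) && (n != 2) &&
  (4 :: ((l.map fun x => x.1).filter fun p => p != 2)).all fun R =>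
    L.any fun r => (hits n l r 2).all fun c => n / c % R == 0

/-- the check when there are no hits -/
theorem chkL_of_nil {n : ℕ} {l : List (ℕ × ℕ)} {r : ℕ} (h : ((n % 2 == 0) && (n != 2) && (hits n l r 2).isEmpty) = true) :
    chkL n l [r] = true := by
  rw [Bool.and_eq_true, Bool.and_eq_true, List.isEmpty_iff] at h
  obtain ⟨⟨h1, h2⟩, h3⟩ := h
  unfold chkL
  rw [h1, h2]
  simp [h3]

/-- a number at least `3` dividing `2 n` is divisible by `4` or by an odd prime of the list -/
theorem exists_R {n : ℕ} {l : List (ℕ × ℕ)} (hv : valid l n = true) {D : ℕ} (h3 : 3 ≤ D) (hD : D ∣ 2 * n) :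
    ∃ R ∈ 4 :: ((l.map fun x => x.1).filter fun p => p != 2), R ∣ D ∧ R ≠ 0 ∧ ¬ R ∣ 2 := by
  by_cases h : ∃ p : ℕ, p.Prime ∧ p ≠ 2 ∧ p ∣ D
  · obtain ⟨p, hp, hp2, hpD⟩ := h
    have h1 : p ∣ n := by
      have h2 : p ∣ 2 * n := hpD.trans hD
      rcases hp.dvd_mul.1 h2 with h3 | h3
      · exact absurd ((Nat.prime_dvd_prime_iff_eq hp Nat.prime_two).1 h3) hp2
      · exact h3
    obtain ⟨k, hk, -⟩ := exists_pair hv hp (le_refl 1) (by rwa [pow_one])
    refine ⟨p, ?_, hpD, hp.ne_zero, fun h => hp2 ((Nat.prime_dvd_prime_iff_eq hp Nat.prime_two).1 h)⟩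
    apply List.mem_cons_of_mem
    rw [List.mem_filter]
    exact ⟨List.mem_map.2 ⟨_, hk, rfl⟩, by simpa using hp2⟩
  · push Not at h
    refine ⟨4, List.mem_cons_self, ?_, by norm_num, by norm_num⟩
    have h1 : D = 2 ^ (D.primeFactorsList.length) := by
      apply Nat.eq_prime_pow_of_unique_prime_dvd (by omega)
      intro q hq hqD
      by_contra hne
      exact h q hq hne hqD
    rw [h1]
    have h2 : 2 ≤ D.primeFactorsList.length := by
      by_contra hlt
      have h4 : D.primeFactorsList.length = 0 ∨ D.primeFactorsList.length = 1 := by omega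
      rcases h4 with h4 | h4
      · rw [h4] at h1; omega
      · rw [h4] at h1; omega
    exact pow_dvd_pow 2 h2

/-- **The rows.** -/
theorem good_of_list (T : OrderTable.{u})
    (hS : ∀ (X : Type u) [Group X] [Finite X] [IsSimpleGroup X], Cfsg.IsKnownSimple' X)
    {S : Type u} [Group S] [Finite S] [IsSimpleGroup S] (hout : Nat.card (Cfsg.Out S) ≤ 2)
    {n : ℕ} (hn : Nat.card S = n) {l : List (ℕ × ℕ)} (hv : valid l n = true) (L : List ℕ)
    (hL : ∀ r ∈ L, ∃ (x : S) (m : ℕ), Sit S r m x ∧ m ≠ 1) (hchk : chkL n l L = true) :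
    GoodMono S := by
  intro A _ _ f hf hN hc _
  unfold chkL at hchk
  rw [Bool.and_eq_true, Bool.and_eq_true] at hchk
  obtain ⟨⟨h2, hn2⟩, hchk⟩ := hchk
  have h2n : 2 ∣ n := Nat.dvd_of_mod_eq_zero (by simpa using h2)
  have hp : ¬ n.Prime := by
    intro hp
    have h3 := (Nat.prime_dvd_prime_iff_eq Nat.prime_two hp).1 h2n
    have h4 : n ≠ 2 := by simpa using hn2
    exact h4 h3.symm
  have hi := index_dvd_two f hf hN hc hout
  have hna : ¬ IsMulCommutative S := by
    intro h
    apply hp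
    rw [← hn]
    let _ : CommGroup S := { (inferInstance : Group S) with mul_comm := fun a b => h.is_comm.comm a b }
    exact IsSimpleGroup.prime_card
  have hEq0 : ∀ D : ℕ, (∀ χ : A → ℂ, NonMono f χ → χ 1 = (D : ℂ)) → (D = 0 ∨ (3 ≤ D ∧ D ∣ 2 * n)) → False := by
    intro D hEq hD
    have hex : ∃ R ∈ 4 :: ((l.map fun x => x.1).filter fun p => p != 2), R ∣ D ∧ R ≠ 0 ∧ ¬ R ∣ 2 := by
      rcases hD with rfl | ⟨h3, hD⟩
      · exact ⟨4, List.mem_cons_self, dvd_zero _, by norm_num, by norm_num⟩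
      · exact exists_R hv h3 hD
    obtain ⟨R, hRm, hRD, hR0, hR2⟩ := hex
    rw [List.all_eq_true] at hchk
    have h3 := hchk R hRm
    rw [List.any_eq_true] at h3
    obtain ⟨r, hrL, h4⟩ := h3
    obtain ⟨x, m, hSit, hm⟩ := hL r hrL
    exact not_dvd_of_hits T hS hna f hf hN hi hn hv hSit hm hR0 (fun h => hR2 (h.trans hi)) hEq h4 hRD
  by_contra hcon
  push Not at hcon
  by_cases hex : ∃ χ : A → ℂ, NonMono f χ
  · obtain ⟨χ, hχ⟩ := hex
    have h3 := Cfsg.Agent.Blocks.Basic.irr_one_eq_charDegree hχ.irr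
    refine hEq0 (charDegree χ) (fun ψ hψ => ?_) (Or.inr ⟨?_, ?_⟩)
    · rw [← h3]
      exact (hcon χ ψ hχ hψ).symm
    · exact three_le_charDegree f (by rw [hn]; exact hp) (by rw [hn]; exact h2n) hχ.irr hχ.nontriv
    · have h4 : charDegree χ ∣ Nat.card A := Cfsg.Agent.Blocks.Knorr.charDegree_dvd hχ.irr
      have h5 : Nat.card A = (f.range).index * Nat.card S := by
        rw [← Subgroup.card_mul_index f.range, mul_comm]
        congr 1
        exact (Nat.card_congr (MonoidHom.ofInjective hf).toEquiv).symm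
      rw [h5, hn] at h4
      exact h4.trans (Nat.mul_dvd_mul_right hi n)
  · push Not at hex
    exact hEq0 0 (fun χ hχ => absurd hχ (hex χ)) (Or.inl rfl)

/-- the full numerical check of a row -/
def chkRow (n : ℕ) (l : List (ℕ × ℕ)) (L : List ℕ) : Bool :=
  valid l n && (L.all fun r => isPrimeB r && (n % r == 0) && (n % r ^ 2 != 0) && (n / r != 1)) && chkL n l L

/-- the check of a row with one prime, without hits -/
def chkOne (n : ℕ) (l : List (ℕ × ℕ)) (r : ℕ) : Bool :=
  valid l n && isPrimeB r && (n % r == 0) && (n % r ^ 2 != 0) && (n / r != 1) && (n % 2 == 0) && (n != 2) &&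
    (hits n l r 2).isEmpty

theorem chkRow_of_one {n : ℕ} {l : List (ℕ × ℕ)} {r : ℕ} (h : chkOne n l r = true) : chkRow n l [r] = true := by
  unfold chkOne at h
  simp only [Bool.and_eq_true] at h
  obtain ⟨⟨⟨⟨⟨⟨⟨h1, h2⟩, h3⟩, h4⟩, h5⟩, h6⟩, h7⟩, h8⟩ := h
  unfold chkRow
  rw [chkL_of_nil (by rw [h6, h7, h8]; rfl), h1]
  simp only [List.all_cons, List.all_nil, Bool.and_true, Bool.true_and, Bool.and_eq_true]
  exact ⟨⟨⟨h2, h3⟩, h4⟩, h5⟩

/-- **The row theorem.** -/
theorem row (T : OrderTable.{u})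
    (hS : ∀ (X : Type u) [Group X] [Finite X] [IsSimpleGroup X], Cfsg.IsKnownSimple' X)
    {S : Type u} [Group S] [Finite S] [IsSimpleGroup S] (hout : Nat.card (Cfsg.Out S) ≤ 2)
    {n : ℕ} (hn : Nat.card S = n) (l : List (ℕ × ℕ)) (L : List ℕ)
    (hL : ∀ r ∈ L, ∃ x : S, Nat.card (Subgroup.centralizer ({x} : Set S)) = r) (hchk : chkRow n l L = true) :
    GoodMono S := by
  unfold chkRow at hchk
  rw [Bool.and_eq_true, Bool.and_eq_true, List.all_eq_true] at hchk
  obtain ⟨⟨hv, hr⟩, hchk⟩ := hchk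
  refine good_of_list T hS hout hn hv L (fun r hrL => ?_) hchk
  have h1 := hr r hrL
  simp only [Bool.and_eq_true, beq_iff_eq, bne_iff_ne, ne_eq] at h1
  obtain ⟨⟨⟨h1, h2⟩, h3⟩, h4⟩ := h1
  obtain ⟨x, hx⟩ := hL r hrL
  exact ⟨x, n / r, sit_of_cent (prime_of h1) hn h2 h3 hx, h4⟩

/-- the row theorem for one prime -/
theorem row_one (T : OrderTable.{u})
    (hS : ∀ (X : Type u) [Group X] [Finite X] [IsSimpleGroup X], Cfsg.IsKnownSimple' X)
    {S : Type u} [Group S] [Finite S] [IsSimpleGroup S] (hout : Nat.card (Cfsg.Out S) ≤ 2)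
    {n : ℕ} (hn : Nat.card S = n) (l : List (ℕ × ℕ)) (r : ℕ)
    (hL : ∃ x : S, Nat.card (Subgroup.centralizer ({x} : Set S)) = r) (hchk : chkOne n l r = true) :
    GoodMono S :=
  row T hS hout hn l [r] (by simpa using hL) (chkRow_of_one hchk)

/-- transfer of a centraliser along an isomorphism -/
theorem cent_congr {G H : Type*} [Group G] [Group H] (e : G ≃* H) {r : ℕ}
    (h : ∃ x : H, Nat.card (Subgroup.centralizer ({x} : Set H)) = r) :
    ∃ x : G, Nat.card (Subgroup.centralizer ({x} : Set G)) = r := by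
  obtain ⟨x, hx⟩ := h
  refine ⟨e.symm x, ?_⟩
  rw [← hx]
  have h1 : (Subgroup.centralizer ({e.symm x} : Set G)).map e.toMonoidHom = Subgroup.centralizer ({x} : Set H) := by
    ext y
    constructor
    · rintro ⟨z, hz, rfl⟩
      have h2 : z * e.symm x = e.symm x * z := Subgroup.mem_centralizer_singleton_iff.1 hz
      apply Subgroup.mem_centralizer_singleton_iff.2
      change e z * x = x * e z
      have h3 := congrArg e h2
      rwa [map_mul, map_mul, e.apply_symm_apply] at h3
    · intro hy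
      have h2 : y * x = x * y := Subgroup.mem_centralizer_singleton_iff.1 hy
      refine ⟨e.symm y, ?_, e.apply_symm_apply y⟩
      apply Subgroup.mem_centralizer_singleton_iff.2
      rw [← map_mul, ← map_mul, h2]
  rw [← h1]
  exact (Nat.card_congr ((Subgroup.centralizer ({e.symm x} : Set G)).equivMapOfInjective _ e.injective).toEquiv)

/-- the context of the sporadic rows -/
structure Env : Prop where
  table : OrderTable.{u}
  known : ∀ (X : Type u) [Group X] [Finite X] [IsSimpleGroup X], Cfsg.IsKnownSimple' X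
  out : ∀ (X : Type u) [Group X], Cfsg.IsSporadicGroup X → Nat.card (Cfsg.Out X) ≤ 2

theorem Env.row (E : Env.{u}) {S : Type u} [Group S] [Finite S] [IsSimpleGroup S] (hs : Cfsg.IsSporadicGroup S)
    (x : Grp × ℕ) (hx : x ∈ OrdDiv.spor) (hr : Real x.1 S) (l : List (ℕ × ℕ)) (L : List ℕ)
    (hL : ∀ r ∈ L, ∃ x : S, Nat.card (Subgroup.centralizer ({x} : Set S)) = r) (hchk : chkRow x.2 l L = true) :
    GoodMono S :=
  Mono.row E.table E.known (E.out S hs) (E.table.spor S x hx hr) l L hL hchk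

theorem Env.row_one (E : Env.{u}) {S : Type u} [Group S] [Finite S] [IsSimpleGroup S] (hs : Cfsg.IsSporadicGroup S)
    (x : Grp × ℕ) (hx : x ∈ OrdDiv.spor) (hr : Real x.1 S) (l : List (ℕ × ℕ)) (r : ℕ)
    (hL : ∃ x : S, Nat.card (Subgroup.centralizer ({x} : Set S)) = r) (hchk : chkOne x.2 l r = true) :
    GoodMono S :=
  Mono.row_one E.table E.known (E.out S hs) (E.table.spor S x hx hr) l r hL hchk

/-- self-centralising elements in subgroups -/
theorem cent_sub {G : Type*} [Group G] [Finite G] {r m : ℕ} {x : G} (h : Sit G r m x) (hm : m ≠ 1) (H : Subgroup G)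
    (hd : r ∣ Nat.card H) : ∃ y : H, Nat.card (Subgroup.centralizer ({y} : Set H)) = r := by
  have hr : Fact r.Prime := ⟨h.prime⟩
  obtain ⟨y, hy⟩ := exists_prime_orderOf_dvd_card' r hd
  refine ⟨y, ?_⟩
  have hyG : orderOf (y : G) = r := by rw [Subgroup.orderOf_coe, hy]
  have h1 := (h.cent_of_orderOf hm hyG).cent
  have h2 : (Subgroup.centralizer {y} : Subgroup H).map H.subtype ≤ Subgroup.centralizer ({(y : G)} : Set G) := by
    rintro _ ⟨x, hx, rfl⟩
    rw [Subgroup.mem_centralizer_singleton_iff]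
    exact congrArg Subtype.val (Subgroup.mem_centralizer_singleton_iff.1 hx)
  have h3 := Subgroup.card_dvd_of_le h2
  rw [h1, Subgroup.card_map_of_injective H.subtype_injective] at h3
  have h4 : orderOf (⟨y, Subgroup.mem_centralizer_singleton_iff.2 rfl⟩ : Subgroup.centralizer ({y} : Set H)) ∣
      Nat.card (Subgroup.centralizer {y} : Subgroup H) := orderOf_dvd_natCard _
  rw [Subgroup.orderOf_mk, hy] at h4
  exact Nat.dvd_antisymm h3 h4

/-- from subgroups of order `r` to elements -/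
theorem cent_of_sub {G : Type*} [Group G] {r : ℕ} (hr : r.Prime) {P : Subgroup G} (hP : Nat.card P = r)
    (h : Nat.card (Subgroup.centralizer (P : Set G)) = r) :
    ∃ x : G, Nat.card (Subgroup.centralizer ({x} : Set G)) = r := by
  have : Fact r.Prime := ⟨hr⟩
  have hcyc : IsCyclic P := isCyclic_of_prime_card hP
  obtain ⟨⟨x, hxP⟩, hx⟩ := hcyc.exists_generator
  refine ⟨x, ?_⟩
  have hPx : P = Subgroup.zpowers x := by
    apply le_antisymm
    · intro y hy
      obtain ⟨j, hj⟩ := Subgroup.mem_zpowers_iff.1 (hx ⟨y, hy⟩)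
      exact Subgroup.mem_zpowers_iff.2 ⟨j, congrArg Subtype.val hj⟩
    · rw [Subgroup.zpowers_le]; exact hxP
  rwa [hPx, Subgroup.zpowers_eq_closure, Subgroup.centralizer_closure] at h

/-- all subgroups of order `r` -/
theorem cent_of_all {G : Type*} [Group G] [Finite G] {r : ℕ} (hr : r.Prime) (hd : r ∣ Nat.card G)
    (h : ∀ P : Subgroup G, Nat.card P = r → Nat.card (Subgroup.centralizer (P : Set G)) = r) :
    ∃ x : G, Nat.card (Subgroup.centralizer ({x} : Set G)) = r := by
  have : Fact r.Prime := ⟨hr⟩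
  obtain ⟨x, hx⟩ := exists_prime_orderOf_dvd_card' r hd
  exact cent_of_sub hr (P := Subgroup.zpowers x) (by rw [Nat.card_zpowers, hx]) (h _ (by rw [Nat.card_zpowers, hx]))

end Cfsg.Agent.H642.Mono
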