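import Cfsg.Agent.H642.SolvRank
import Cfsg.Agent.H642.FongRed
import Cfsg.Agent.H624.TameL2
import Cfsg.Prelude.Def_CaseTheorems
import Mathlib.GroupTheory.SpecificGroups.Dihedral

/-!
# Blocks of solvable groups with dihedral or semidihedral defect groups

`blockRank_le_two`: such a block has 2-regular rank at most two.
-/

set_option autoImplicit false
set_option linter.unusedSectionVars false

open Cfsg

namespace Cfsg.Agent.H642.SolvTame

open Cfsg.Agent

universe u

/-- Dihedral of order at least 8 or semidihedral. -/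
def Tame (D : Type*) [Group D] : Prop :=
  (∃ n : ℕ, 3 ≤ n ∧ Nonempty (D ≃* DihedralGroup (2 ^ (n - 1)))) ∨ IsQuasiDihedral D

theorem Tame.congr {D E : Type*} [Group D] [Group E] (e : D ≃* E) (h : Tame D) : Tame E := by
  rcases h with ⟨n, hn, ⟨f⟩⟩ | ⟨n, hn, hc, x, y, hx, hy, hxy⟩
  · exact Or.inl ⟨n, hn, ⟨e.symm.trans f⟩⟩
  · refine Or.inr ⟨n, hn, (Nat.card_congr e.toEquiv).symm.trans hc, e x, e y, ?_, ?_, ?_⟩
    · rw [MulEquiv.orderOf_eq, hx]
    · rw [MulEquiv.orderOf_eq, hy]
    · rw [← map_inv, ← map_mul, ← map_mul, hxy, map_pow]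

theorem blockRank_le_two {G : Type u} [Group G] [Finite G]
    (hG : Group.IsSolvable G) (M : Ideal AlgInt) (hM : IsPModular 2 M)
    {B : Set (IrrCharacter G)} (hB : IsPBlock M B) {D : Subgroup G}
    (hD : IsDefectGroup 2 M B D) (hD' : Tame D) : blockRank 2 B ≤ 2 := by
  classical
  have : Fact (Nat.Prime 2) := ⟨Nat.prime_two⟩
  obtain ⟨X, _, _, f, N, hN, _, θ, B', P, hf, hNdef, hinv, hB', hmem, ⟨e⟩, hrank⟩ :=
    FongRed.fong_reduction 2 M hM (Nat.card G) G le_rfl (Lib.PSolvable.IsPSolvable_of_solvable 2)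
      B hB D hD
  refine hrank.trans ?_
  have hX : Group.IsSolvable X := Group.isSolvable_of_isSolvable_injective hf
  have hY1 : pPrimeCore 2 (X ⧸ N) = ⊥ := by
    subst hNdef
    exact Lib.Cores.pPrimeCore_quotient_pPrimeCore 2
  have hN2 : (Nat.card N).Coprime 2 := by
    rw [hNdef]
    exact Lib.Cores.pPrimeCore_coprime (G := X) 2
  have hsurj : Function.Surjective (QuotientGroup.mk' N) := QuotientGroup.mk'_surjective N
  have e2 : (P : Subgroup X) ≃* (P.mapSurjective hsurj : Subgroup (X ⧸ N)) := by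
    have hinj : Function.Injective ((QuotientGroup.mk' N).subgroupMap (P : Subgroup X)) := by
      rw [injective_iff_map_eq_one]
      rintro ⟨x, hx⟩ h
      have h1 : (QuotientGroup.mk' N) x = 1 := congrArg Subtype.val h
      have h2 : x ∈ N := by
        rwa [← MonoidHom.mem_ker, QuotientGroup.ker_mk'] at h1
      apply Subtype.ext
      change x = 1
      obtain ⟨k, hk⟩ := P.2 ⟨x, hx⟩
      have h3 : x ^ 2 ^ k = 1 := by
        have := congrArg Subtype.val hk
        simpa using this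
      have h4 : orderOf x ∣ 2 ^ k := orderOf_dvd_of_pow_eq_one h3
      have h5 : orderOf x ∣ Nat.card N := by
        have := orderOf_dvd_natCard (⟨x, h2⟩ : N)
        rwa [Subgroup.orderOf_mk] at this
      have h6 : Nat.Coprime (2 ^ k) (Nat.card N) := Nat.Coprime.pow_left k hN2.symm
      have h7 := Nat.eq_one_of_dvd_coprimes h6 h4 h5
      exact orderOf_eq_one_iff.1 h7
    exact MulEquiv.ofBijective _ ⟨hinj, MonoidHom.subgroupMap_surjective _ _⟩
  obtain ⟨s', hs'⟩ := Cfsg.Agent.H624.TameL2.L2 (X := X ⧸ N) inferInstance hY1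
    (P.mapSurjective hsurj)
    ((hD'.congr e).congr e2)
  obtain ⟨s, rfl⟩ := hsurj s'
  have hbound := SolvRank.blockRank_le (N := N) θ.2 hinv (p := 2) (B := B')
    (fun χ hχ => (hmem χ).1 hχ) (ι := Bool) (fun b => if b then s else 1) (fun g hg => by
      have h1 : ¬ 2 ∣ orderOf (QuotientGroup.mk' N g) := fun h =>
        hg (h.trans (orderOf_map_dvd _ g))
      rcases hs' _ h1 with h2 | h2
      · rw [← MonoidHom.mem_ker, QuotientGroup.ker_mk'] at h2
        exact ⟨false, ⟨g, h2⟩, 1, by simp⟩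
      · obtain ⟨c, hc⟩ := isConj_iff.1 h2
        obtain ⟨x, rfl⟩ := hsurj c
        rw [← map_mul, ← map_inv, ← map_mul] at hc
        have h3 : x * g * x⁻¹ * s⁻¹ ∈ N := by
          rw [← QuotientGroup.ker_mk' N, MonoidHom.mem_ker, map_mul, hc, ← map_mul, mul_inv_cancel,
            map_one]
        exact ⟨true, ⟨_, h3⟩, x, by simp⟩)
  simpa using hbound

end Cfsg.Agent.H642.SolvTame
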