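import Cfsg.Agent.H613.SubFus

/-!
# Lower bounds for the number of characters of a block

`add_sum_le`: if `w k` are nontrivial elements of the maximal pair `a`, pairwise not fused in
the block `B`, then `l(B) + ∑ₖ l(b_{w k}) ≤ k(B)`; `add_card_le`: in particular
`l(B) + |κ| ≤ k(B)`.
-/

set_option autoImplicit false
set_option linter.unusedSectionVars false

open Cfsg

namespace Cfsg.Agent.H642.SubCount

open Cfsg.Agent.H649 Cfsg.Agent.Characters
open Cfsg.Agent.H613.SubSys Cfsg.Agent.H613.SubFus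

universe u

variable {p : ℕ} [Fact p.Prime] {M : Ideal AlgInt} {G : Type u} [Group G] [Finite G]
  {B : Set (IrrCharacter G)} {a : BrauerPairIdx G}

/-- The nontrivial elements of the maximal pair up to fusion. -/
def setoid (p : ℕ) [Fact p.Prime] (M : Ideal AlgInt) (a : BrauerPairIdx G) :
    Setoid {v : G // v ∈ a.1 ∧ v ≠ 1} where
  r u v := Fus p M a u v
  iseqv := ⟨fun u => Fus.refl _, fun h => Fus.symm h, fun h h' => Fus.trans h h'⟩

theorem add_sum_le (hM : IsPModular p M) (hmax : IsMaximalBrauerPair p M B a.1 a.2)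
    {κ : Type*} [Fintype κ] (w : κ → G) (hw : ∀ k, w k ∈ a.1) (h1 : ∀ k, w k ≠ 1)
    (hinj : ∀ k l, Fus p M a (w k) (w l) → k = l) :
    blockRank p B + ∑ k, blockRank p (bel p M a (w k)).2 ≤ Nat.card B := by
  classical
  let ι : Type u := Quotient (setoid p M a)
  have : Finite ι := Quotient.finite _
  have := Fintype.ofFinite ι
  let c : κ → ι := fun k => Quotient.mk (setoid p M a) ⟨w k, hw k, h1 k⟩
  have hc : ∀ k l, c k = c l → k = l := fun k l h => hinj k l (Quotient.exact h)
  let r : ι → G := fun i => if h : ∃ k, c k = i then w h.choose else (Quotient.out i : _).1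
  have hrc : ∀ k, r (c k) = w k := by
    intro k
    have h : ∃ k', c k' = c k := ⟨k, rfl⟩
    have h2 : r (c k) = w h.choose := dif_pos h
    rw [h2, hc _ _ h.choose_spec]
  have hrq : ∀ i, ∃ h : r i ∈ a.1 ∧ r i ≠ 1, Quotient.mk (setoid p M a) ⟨r i, h⟩ = i := by
    intro i
    by_cases h : ∃ k, c k = i
    · obtain ⟨k, rfl⟩ := h
      refine ⟨by rw [hrc]; exact ⟨hw k, h1 k⟩, ?_⟩
      apply Quotient.sound
      change Fus p M a (r (c k)) (w k)
      rw [hrc]
      exact Fus.refl _
    · have h2 : r i = (Quotient.out i : _).1 := dif_neg h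
      refine ⟨by rw [h2]; exact (Quotient.out i).2, ?_⟩
      conv_rhs => rw [← Quotient.out_eq i]
      congr 1
      exact Subtype.ext h2
  have hsys : IsSys p M B r (fun i => bel p M a (r i)) := by
    refine isSys_of_reps hM hmax r (fun i => (hrq i).1.1) (fun i => (hrq i).1.2) ?_ ?_
    · intro i j h
      rw [← (hrq i).2, ← (hrq j).2]
      exact Quotient.sound h
    · intro v hv hv1
      refine ⟨Quotient.mk (setoid p M a) ⟨v, hv, hv1⟩, ?_⟩
      exact Quotient.exact (hrq (Quotient.mk (setoid p M a) ⟨v, hv, hv1⟩)).2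
  rw [hsys.card_eq hM hmax.1.2.1]
  refine Nat.add_le_add_left ?_ _
  have hcinj : Function.Injective c := hc
  calc ∑ k, blockRank p (bel p M a (w k)).2
      = ∑ k, blockRank p (bel p M a (r (c k))).2 :=
        Finset.sum_congr rfl fun k _ => by rw [hrc]
    _ = ∑ i ∈ Finset.univ.image c, blockRank p (bel p M a (r i)).2 :=
        (Finset.sum_image (f := fun i => blockRank p (bel p M a (r i)).2)
          fun k _ l _ h => hcinj h).symm
    _ ≤ _ := Finset.sum_le_sum_of_subset (Finset.subset_univ _)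

theorem blockRank_pos (hM : IsPModular p M) {B : Set (IrrCharacter G)} (hB : IsPBlock M B) :
    0 < blockRank p B := by
  have := Cfsg.Agent.Blocks.Local.isPrime_of_isPModular hM
  obtain ⟨χ, hχ⟩ := Cfsg.Agent.Blocks.Basic.isPBlock_nonempty hB
  have := Fintype.ofFinite G
  unfold blockRank
  have : Module.Finite ℂ (Submodule.span ℂ
      ((fun χ : IrrCharacter G => pRegularPart p (χ : G → ℂ)) '' B)) := inferInstance
  rw [Module.finrank_pos_iff_exists_ne_zero]
  refine ⟨⟨pRegularPart p (χ : G → ℂ), Submodule.subset_span ⟨χ, hχ, rfl⟩⟩, fun h => ?_⟩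
  have h1 : pRegularPart p (χ : G → ℂ) = 0 := congrArg Subtype.val h
  have h2 := congrFun h1 1
  have h3 : IsPRegular p (1 : G) := by
    unfold IsPRegular
    rw [orderOf_one, Nat.dvd_one]
    exact (Fact.out : p.Prime).ne_one
  unfold pRegularPart at h2
  rw [if_pos h3] at h2
  exact Core.isIrr_apply_one_ne_zero χ.2 h2

theorem add_card_le (hM : IsPModular p M) (hmax : IsMaximalBrauerPair p M B a.1 a.2)
    {κ : Type*} [Fintype κ] (w : κ → G) (hw : ∀ k, w k ∈ a.1) (h1 : ∀ k, w k ≠ 1)
    (hinj : ∀ k l, Fus p M a (w k) (w l) → k = l) :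
    blockRank p B + Fintype.card κ ≤ Nat.card B := by
  refine le_trans (Nat.add_le_add_left ?_ _) (add_sum_le hM hmax w hw h1 hinj)
  rw [Fintype.card_eq_sum_ones]
  exact Finset.sum_le_sum fun k _ => blockRank_pos hM (isPBlock_bel hM hmax.1.1 (hw k))

end Cfsg.Agent.H642.SubCount
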