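import Cfsg.Agent.H642.TameCenter
import Cfsg.Agent.H642.SolvTame

/-!
# 2-blocks of rank three with dihedral or semidihedral defect groups

`main`: the centre has odd order and the group is not solvable (statement S4531), given the bound
`K4528` for the number of characters in dihedral 2-blocks.
-/

set_option autoImplicit false

open Cfsg

namespace Cfsg.Agent.H642.TameMain

universe u

theorem main {M : Ideal AlgInt} (hK : TameCenter.K4528.{u} M) {G : Type u} [Group G] [Finite G]
    (hM : IsPModular 2 M) (B : Set (IrrCharacter G)) (hB : IsPBlock M B) (D : Subgroup G)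
    (hD : IsDefectGroup 2 M B D)
    (hD' : (∃ n : ℕ, 3 ≤ n ∧ Nonempty (D ≃* DihedralGroup (2 ^ (n - 1)))) ∨ IsQuasiDihedral D)
    (hl : blockRank 2 B = 3) :
    Odd (Nat.card (Subgroup.center G)) ∧ ¬ Group.IsSolvable G := by
  have hp2 : Fact (Nat.Prime 2) := ⟨Nat.prime_two⟩
  constructor
  · by_contra hodd
    rw [Nat.not_odd_iff_even, even_iff_two_dvd] at hodd
    obtain ⟨t, ht⟩ := exists_prime_orderOf_dvd_card' 2 hodd
    have ht2 : (t : G) * t = 1 := by
      have h1 : t ^ 2 = 1 := by rw [← ht, pow_orderOf_eq_one]
      rw [← pow_two]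
      simpa using congrArg Subtype.val h1
    have ht1 : (t : G) ≠ 1 := by
      intro h
      have h1 : t = 1 := Subtype.ext h
      rw [h1, orderOf_one] at ht
      omega
    rcases hD' with ⟨n, hn, ⟨e⟩⟩ | hq
    · exact TameCenter.not_central_dihedral hK hM hB hD hn e hl t.2 ht1 ht2
    · exact TameCenter.not_central_semidihedral hK hM hB hD hq hl t.2 ht1 ht2
  · intro hsol
    have h := SolvTame.blockRank_le_two hsol M hM hB hD hD'
    omega

end Cfsg.Agent.H642.TameMain
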